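import Groth.Agent.RepDescLib.Hom
import Groth.Prelude.Def_ActBC

/-!
Families of homomorphisms and base change.
-/

set_option autoImplicit false
set_option backward.isDefEq.respectTransparency false

noncomputable section

universe u

open CategoryTheory CategoryTheory.Limits MonoidalCategory CartesianMonoidalCategory AlgebraicGeometry
open scoped MonObj

namespace Groth.Agent.HomRep

variable {S P : Scheme.{u}} (p : P ⟶ S) (H G : Over S) [GrpObj H] [GrpObj G]

/-- The points of a base change. -/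
abbrev bcEquiv (Y : Over S) (T : Over P) : ((Over.map p).obj T ⟶ Y) ≃ (T ⟶ Red.bc p Y) :=
  (Over.mapPullbackAdj p).homEquiv T Y

theorem bcEquiv_mul (T : Over P) (g g' : (Over.map p).obj T ⟶ G) :
    bcEquiv p G T (g * g') = bcEquiv p G T g * bcEquiv p G T g' :=
  AlgGrp.Action.homEquiv_mul p g g'

theorem bcEquiv_symm_mul (T : Over P) (g g' : T ⟶ Red.bc p G) :
    (bcEquiv p G T).symm (g * g') = (bcEquiv p G T).symm g * (bcEquiv p G T).symm g' := by
  apply (bcEquiv p G T).injective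
  rw [bcEquiv_mul, Equiv.apply_symm_apply, Equiv.apply_symm_apply, Equiv.apply_symm_apply]

/-- The comparison of products. -/
def prodMap (T : Over P) : (Over.map p).obj (Red.bc p H ⊗ T) ⟶ H ⊗ (Over.map p).obj T :=
  lift ((bcEquiv p H _).symm (fst (Red.bc p H) T)) ((Over.map p).map (snd (Red.bc p H) T))

theorem isPullback_prodMap (T : Over P) :
    IsPullback (pullback.fst (pullback.snd H.hom p) T.hom ≫ pullback.fst H.hom p)
      (pullback.snd (pullback.snd H.hom p) T.hom) H.hom (T.hom ≫ p) :=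
  ((IsPullback.of_hasPullback (pullback.snd H.hom p) T.hom).flip.paste_vert
    (IsPullback.of_hasPullback H.hom p).flip).flip

theorem prodMap_left (T : Over P) : (prodMap p H T).left = (isPullback_prodMap p H T).isoPullback.hom := by
  apply pullback.hom_ext
  · refine (congrArg Over.Hom.left (lift_fst ((bcEquiv p H _).symm (fst (Red.bc p H) T))
      ((Over.map p).map (snd (Red.bc p H) T)))).trans ?_
    erw [IsPullback.isoPullback_hom_fst, Adjunction.homEquiv_counit]
    simp [Over.mapPullbackAdj]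
  · refine (congrArg Over.Hom.left (lift_snd ((bcEquiv p H _).symm (fst (Red.bc p H) T))
      ((Over.map p).map (snd (Red.bc p H) T)))).trans ?_
    erw [IsPullback.isoPullback_hom_snd]
    rfl

instance (T : Over P) : IsIso (prodMap p H T) := by
  haveI : IsIso ((Over.forget S).map (prodMap p H T)) := by
    show IsIso (prodMap p H T).left
    rw [prodMap_left]
    infer_instance
  exact isIso_of_reflects_iso _ (Over.forget S)

/-- A family over the base change as a family. -/
def tr {T : Over P} (φ : Red.bc p H ⊗ T ⟶ Red.bc p G) : H ⊗ (Over.map p).obj T ⟶ G :=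
  inv (prodMap p H T) ≫ (bcEquiv p G _).symm φ

theorem tr_bijective (T : Over P) : Function.Bijective (tr p H G (T := T)) :=
  ⟨fun φ ψ e => (bcEquiv p G _).symm.injective ((cancel_epi (inv (prodMap p H T))).1 e), fun f =>
    ⟨bcEquiv p G _ (prodMap p H T ≫ f), by rw [tr, Equiv.symm_apply_apply, IsIso.inv_hom_id_assoc]⟩⟩

theorem lift_tr {T X : Over P} (g : X ⟶ Red.bc p H) (t : X ⟶ T) (φ : Red.bc p H ⊗ T ⟶ Red.bc p G) :
    lift ((bcEquiv p H X).symm g) ((Over.map p).map t) ≫ tr p H G φ = (bcEquiv p G X).symm (lift g t ≫ φ) := by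
  have e : lift ((bcEquiv p H X).symm g) ((Over.map p).map t) = (Over.map p).map (lift g t) ≫ prodMap p H T := by
    rw [prodMap, comp_lift, ← Adjunction.homEquiv_naturality_left_symm, lift_fst, ← Functor.map_comp, lift_snd]
  rw [e, tr, Category.assoc, IsIso.hom_inv_id_assoc, Adjunction.homEquiv_naturality_left_symm]

theorem isHomFamily_tr {T : Over P} (φ : Red.bc p H ⊗ T ⟶ Red.bc p G) :
    AutFam.IsHomFamily H G (tr p H G φ) ↔ AutFam.IsHomFamily (Red.bc p H) (Red.bc p G) φ := by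
  constructor
  · intro h X g₁ g₂ t
    apply (bcEquiv p G X).symm.injective
    rw [bcEquiv_symm_mul, ← lift_tr, ← lift_tr, ← lift_tr, bcEquiv_symm_mul]
    exact h _ _ _ _
  · intro h X g₁ g₂ t
    let X' : Over P := Over.mk (t.left ≫ T.hom)
    let i : (Over.map p).obj X' ≅ X := Over.isoMk (Iso.refl _) (by
      show 𝟙 _ ≫ X.hom = (t.left ≫ T.hom) ≫ p
      rw [Category.id_comp, Category.assoc]
      exact (Over.w t).symm)
    let t' : X' ⟶ T := Over.homMk t.left rfl
    have ht : (Over.map p).map t' = i.hom ≫ t := Over.OverMorphism.ext (Category.id_comp _).symm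
    apply (cancel_epi i.hom).1
    rw [MonObj.comp_mul, ← Category.assoc, ← Category.assoc, ← Category.assoc, comp_lift, comp_lift, comp_lift,
      MonObj.comp_mul, ← ht]
    have h1 := h X' (bcEquiv p H X' (i.hom ≫ g₁)) (bcEquiv p H X' (i.hom ≫ g₂)) t'
    have h2 := congrArg (bcEquiv p G X').symm h1
    rwa [bcEquiv_symm_mul, ← lift_tr, ← lift_tr, ← lift_tr, bcEquiv_symm_mul, Equiv.symm_apply_apply,
      Equiv.symm_apply_apply] at h2

theorem whiskerLeft_tr {T T' : Over P} (a : T' ⟶ T) (φ : Red.bc p H ⊗ T ⟶ Red.bc p G) :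
    (H ◁ (Over.map p).map a) ≫ tr p H G φ = tr p H G ((Red.bc p H ◁ a) ≫ φ) := by
  have key : prodMap p H T' ≫ (H ◁ (Over.map p).map a) =
      (Over.map p).map (Red.bc p H ◁ a) ≫ prodMap p H T := by
    rw [prodMap, prodMap, lift_whiskerLeft, comp_lift, ← Adjunction.homEquiv_naturality_left_symm, whiskerLeft_fst,
      ← Functor.map_comp, ← Functor.map_comp, whiskerLeft_snd]
  rw [← cancel_epi (prodMap p H T'), ← Category.assoc, key, Category.assoc, tr, tr, IsIso.hom_inv_id_assoc,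
    IsIso.hom_inv_id_assoc, Adjunction.homEquiv_naturality_left_symm]

/-- A representing object over a base change gives one over the base. -/
theorem exists_isRepOver_of_bc {A : Over P} (u : (RepDescLib.homSec (Red.bc p H) (Red.bc p G)).obj A)
    (h : ∀ (T : Over P) (s : (RepDescLib.homSec (Red.bc p H) (Red.bc p G)).obj T),
      ∃! a : T ⟶ A, (RepDescLib.homSec (Red.bc p H) (Red.bc p G)).res a u = s) :
    ∃ v : (RepDescLib.homSec H G).obj ((Over.map p).obj A),
      RepDescLib.IsRepOver (RepDescLib.homSec H G)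
        (Over.homMk A.hom : (Over.map p).obj A ⟶ Over.mk p) v := by
  refine ⟨⟨tr p H G u.1, (isHomFamily_tr p H G u.1).2 u.2⟩, fun T x s => ?_⟩
  let T' : Over P := Over.mk x.left
  let i : (Over.map p).obj T' ≅ T := Over.isoMk (Iso.refl _) (by
    show 𝟙 _ ≫ T.hom = x.left ≫ p
    rw [Category.id_comp]
    exact (Over.w x).symm)
  obtain ⟨φ, hφ⟩ := (tr_bijective p H G T').2 ((H ◁ i.hom) ≫ s.1)
  have hφ' : AutFam.IsHomFamily (Red.bc p H) (Red.bc p G) φ :=
    (isHomFamily_tr p H G φ).1 (hφ ▸ RepDescLib.isHomFamily_comp H G i.hom s.2)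
  obtain ⟨a, ha, hau⟩ := h T' ⟨φ, hφ'⟩
  have key : ∀ b : T' ⟶ A, (H ◁ (Over.map p).map b) ≫ tr p H G u.1 = (H ◁ i.hom) ≫ s.1 ↔ b = a := by
    intro b
    rw [whiskerLeft_tr, ← hφ]
    exact ⟨fun e => hau b (Subtype.ext ((tr_bijective p H G T').1 e)), fun e => e ▸ congrArg (tr p H G) (congrArg Subtype.val ha)⟩
  refine ⟨i.inv ≫ (Over.map p).map a, ⟨Over.OverMorphism.ext ?_, Subtype.ext ?_⟩, fun b hb => ?_⟩
  · show (𝟙 _ ≫ a.left) ≫ A.hom = x.left
    rw [Category.id_comp]
    exact Over.w a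
  · show (H ◁ (i.inv ≫ (Over.map p).map a)) ≫ tr p H G u.1 = s.1
    rw [whiskerLeft_comp, Category.assoc, (key a).2 rfl, ← Category.assoc, ← whiskerLeft_comp, i.inv_hom_id,
      whiskerLeft_id, Category.id_comp]
  · let b' : T' ⟶ A := Over.homMk b.left (congrArg Over.Hom.left hb.1)
    have e : (Over.map p).map b' = i.hom ≫ b := Over.OverMorphism.ext (Category.id_comp _).symm
    have : b' = a := (key b').1 (by
      rw [e, whiskerLeft_comp, Category.assoc]
      exact congrArg ((H ◁ i.hom) ≫ ·) (congrArg Subtype.val hb.2))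
    rw [← this, e, Iso.inv_hom_id_assoc]

omit p in
/-- Representing objects are unchanged by isomorphisms of the groups. -/
theorem exists_rep_of_iso {H' G' : Over S} [GrpObj H'] [GrpObj G'] (e : H' ≅ H) [IsMonHom e.hom] (f : G' ≅ G)
    [IsMonHom f.hom] {A : Over S} (u : (RepDescLib.homSec H' G').obj A)
    (h : ∀ (T : Over S) (s : (RepDescLib.homSec H' G').obj T), ∃! a : T ⟶ A, (RepDescLib.homSec H' G').res a u = s) :
    ∃ v : (RepDescLib.homSec H G).obj A,
      ∀ (T : Over S) (s : (RepDescLib.homSec H G).obj T), ∃! a : T ⟶ A, (RepDescLib.homSec H G).res a v = s := by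
  have mk : ∀ {H₁ G₁ H₂ G₂ : Over S} [GrpObj H₁] [GrpObj G₁] [GrpObj H₂] [GrpObj G₂] (c : H₂ ⟶ H₁) [IsMonHom c]
      (d : G₁ ⟶ G₂) [IsMonHom d] {T : Over S} {φ : H₁ ⊗ T ⟶ G₁}, AutFam.IsHomFamily H₁ G₁ φ →
      AutFam.IsHomFamily H₂ G₂ ((c ▷ T) ≫ φ ≫ d) := by
    intro H₁ G₁ H₂ G₂ _ _ _ _ c _ d _ T φ hφ X g₁ g₂ t
    simp only [← Category.assoc, lift_whiskerRight, MonObj.mul_comp, hφ X (g₁ ≫ c) (g₂ ≫ c) t]
  refine ⟨⟨(e.inv ▷ A) ≫ u.1 ≫ f.hom, mk e.inv f.hom u.2⟩, fun T s => ?_⟩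
  obtain ⟨a, ha, hau⟩ := h T ⟨(e.hom ▷ T) ≫ s.1 ≫ f.inv, mk e.hom f.inv s.2⟩
  refine ⟨a, Subtype.ext ?_, fun b hb => hau b (Subtype.ext ?_)⟩
  · have ha' : (H' ◁ a) ≫ u.1 = (e.hom ▷ T) ≫ s.1 ≫ f.inv := congrArg Subtype.val ha
    show (H ◁ a) ≫ (e.inv ▷ A) ≫ u.1 ≫ f.hom = s.1
    rw [← Category.assoc, whisker_exchange, Category.assoc, reassoc_of% ha', Iso.inv_hom_id, Category.comp_id,
      ← Category.assoc, ← comp_whiskerRight, e.inv_hom_id, id_whiskerRight, Category.id_comp]
  · have hb' : (H ◁ b) ≫ (e.inv ▷ A) ≫ u.1 ≫ f.hom = s.1 := congrArg Subtype.val hb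
    show (H' ◁ b) ≫ u.1 = (e.hom ▷ T) ≫ s.1 ≫ f.inv
    rw [← hb']
    simp only [Category.assoc]
    rw [f.hom_inv_id, Category.comp_id, whisker_exchange_assoc, ← comp_whiskerRight_assoc, e.hom_inv_id,
      id_whiskerRight, Category.id_comp]

end Groth.Agent.HomRep
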