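import Groth.Agent.DescLib.IndQAMain
import Groth.Agent.DescLib.Open
import Groth.Agent.AlgSpLib.FpqcMore
import Mathlib.AlgebraicGeometry.Morphisms.LocalFlatDescent

/-!
Effective descent of ind-quasi-affine morphisms along single coverings; properties descend.
-/

set_option autoImplicit false
set_option backward.isDefEq.respectTransparency false
set_option backward.isDefEq.respectTransparency.types false

noncomputable section

universe u

open CategoryTheory CategoryTheory.Limits AlgebraicGeometry TopologicalSpace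

namespace Groth.Agent.HomRep

open DescLib Desc

theorem indQA_sigmaMap' {κ : Type u} {Y V : κ → Scheme.{u}} (q : ∀ j, Y j ⟶ V j) (hq : ∀ j, indQA (q j)) :
    indQA (Limits.Sigma.map q) := by
  refine (RichLib.QA.indQA_iff _).mpr fun A hA U hUA hU => RichLib.QA.isQuasiAffine_local _ hA hUA hU fun y hy => ?_
  obtain ⟨i, z, hz⟩ := exists_sigma_mem y
  obtain ⟨a, ha, hya⟩ := hA.exists_basicOpen_le (V := (Sigma.ι V i).opensRange) ⟨y, ⟨z, hz⟩⟩ hy
  refine ⟨a, hya, fun U' hU' hc => ?_⟩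
  have hsub : (U' : Set ↥(∐ Y)) ⊆ Set.range (Sigma.ι Y i) := fun x hx => by
    obtain ⟨w, hw⟩ := ha (hU' hx).2
    obtain ⟨z', -, hz'⟩ := exists_of_isPullback (isPullback_sigmaι_map q i) (a := w) (b := x) hw
    exact ⟨z', hz'⟩
  let U'' : (Y i).Opens := Sigma.ι Y i ⁻¹ᵁ U'
  have hc'' : IsCompact (U'' : Set (Y i)) :=
    (Sigma.ι Y i).isOpenEmbedding.isInducing.isCompact_preimage' hc hsub
  haveI := (RichLib.QA.indQA_iff (q i)).mp (hq i) (Sigma.ι V i ⁻¹ᵁ (∐ V).basicOpen a)
    ((hA.basicOpen a).preimage_of_isOpenImmersion _ ha) U'' (fun x hx => by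
      have h := (hU' (show Sigma.ι Y i x ∈ U' from hx)).2
      change Sigma.ι V i (q i x) ∈ (∐ V).basicOpen a
      change Limits.Sigma.map q (Sigma.ι Y i x) ∈ (∐ V).basicOpen a at h
      rwa [← Scheme.Hom.comp_apply, ← Sigma.ι_map, Scheme.Hom.comp_apply]) hc''
  have himg : Sigma.ι Y i ''ᵁ U'' = U' := by
    rw [Scheme.Hom.image_preimage_eq_opensRange_inf, inf_eq_right]
    exact hsub
  rw [← himg]
  exact RichLib.QA.isQuasiAffine_of_iso ((Sigma.ι Y i).isoImage U'').inv

variable {X S : Scheme.{u}} {p : X ⟶ S}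

/-- Ind-quasi-affine schemes descend along coverings. -/
theorem effective_indQA [Fpqc p] (D : SchDD p) (hD : MoreMor.IsIndQuasiAffineHom D.obj.hom) :
    ∃ U : Over S, Nonempty ((Desc.toDD p).obj U ≅ D) := by
  refine effective_of_refinements D fun S₀ hS₀ => ?_
  obtain ⟨m, a, V, o, b, -, ho, hob, haff, hfl, hsurj, hqc⟩ :=
    exists_affine_refinement (Fpqc.memOfArrows p) hS₀
  have w : Limits.Sigma.desc o ≫ p = Limits.Sigma.desc b ≫ S₀.ι :=
    Sigma.hom_ext _ _ fun k => by rw [Sigma.ι_desc_assoc, Sigma.ι_desc_assoc, hob k]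
  refine ⟨_, Limits.Sigma.desc o, Limits.Sigma.desc b, inferInstance, w, ?_⟩
  haveI : IsAffine S₀.toScheme := hS₀
  haveI := haff
  let D' := pullDD D (Limits.Sigma.desc b) (Limits.Sigma.desc o) S₀.ι w
  have hD' : MoreMor.IsIndQuasiAffineHom D'.obj.hom :=
    MorphismProperty.pullback_snd (P := indQA) _ _ hD
  exact effective_affine_indQA D' hD'

/-- A property local on the target which descends along flat quasi-compact surjections descends along coverings. -/
theorem prop_of_isPullback_fpqc (P : MorphismProperty Scheme.{u}) [IsZariskiLocalAtTarget P]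
    [P.IsStableUnderBaseChange] [P.DescendsAlong (@Surjective ⊓ @Flat ⊓ @QuasiCompact)]
    {X' Y' Y Z : Scheme.{u}} {g' : X' ⟶ Z} {f' : X' ⟶ Y'} {f : Z ⟶ Y} {p : Y' ⟶ Y} [Fpqc p]
    (sq : IsPullback g' f' f p) (h : P f') : P f := by
  refine (IsZariskiLocalAtTarget.iff_of_iSup_eq_top (fun V : Y.affineOpens => (V : Y.Opens))
    (iSup_affineOpens_eq_top Y)).2 fun V => ?_
  obtain ⟨m, a, W, o, b, -, -, hob, haff, hfl, hsurj, hqc⟩ :=
    exists_affine_refinement (Fpqc.memOfArrows p) V.2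
  haveI := hfl
  haveI := hsurj
  haveI := hqc
  let o' : ∐ W ⟶ Y' := Limits.Sigma.desc o
  let b' : ∐ W ⟶ (V : Y.Opens).toScheme := Limits.Sigma.desc b
  have w : o' ≫ p = b' ≫ (V : Y.Opens).ι :=
    Sigma.hom_ext _ _ fun k => by simp only [o', b', Sigma.ι_desc_assoc, hob k]
  refine MorphismProperty.of_pullback_snd_of_descendsAlong (P := P)
    (Q := @Surjective ⊓ @Flat ⊓ @QuasiCompact) (f := f ∣_ (V : Y.Opens)) (g := b') ⟨⟨hsurj, hfl⟩, hqc⟩ ?_
  have sq₂ : IsPullback (pullback.fst (f ∣_ (V : Y.Opens)) b' ≫ (f ⁻¹ᵁ (V : Y.Opens)).ι)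
      (pullback.snd (f ∣_ (V : Y.Opens)) b') f (o' ≫ p) := by
    rw [w]
    exact (IsPullback.of_hasPullback _ _).paste_horiz (isPullback_morphismRestrict _ _).flip
  have sq₁ : IsPullback (pullback.fst f' o' ≫ g') (pullback.snd f' o') f (o' ≫ p) :=
    (IsPullback.of_hasPullback f' o').paste_horiz sq
  rw [← sq₂.isoPullback_hom_snd, ← sq₁.isoPullback_inv_snd]
  exact (P.cancel_left_of_respectsIso _ _).2 ((P.cancel_left_of_respectsIso _ _).2 (MorphismProperty.pullback_snd _ _ h))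

theorem isSeparated_of_isPullback_fpqc {X' Y' Y Z : Scheme.{u}} {g' : X' ⟶ Z} {f' : X' ⟶ Y'} {f : Z ⟶ Y}
    {p : Y' ⟶ Y} [Fpqc p] (sq : IsPullback g' f' f p) (h : IsSeparated f') : IsSeparated f := by
  rw [IsSeparated.isSeparated_eq_diagonal_isClosedImmersion] at h ⊢
  exact prop_of_isPullback_fpqc (MorphismProperty.diagonal (@IsClosedImmersion : MorphismProperty Scheme.{u})) sq h

end Groth.Agent.HomRep
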