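import Groth.Agent.HomRepLib.Glue
import Groth.Agent.HomRepLib.Transfer
import Groth.Agent.HomRepLib.Descent
import Groth.Agent.HomCorrLib.Bridge
import Groth.Agent.RepDescLib.DualConst
import Groth.Prelude.Def_TwC
import Groth.Prelude.Def_SGA3x

/-!
Homomorphisms from groups of multiplicative type to smooth affine groups are representable.
-/

set_option autoImplicit false

noncomputable section

universe u

open CategoryTheory CategoryTheory.Limits MonoidalCategory CartesianMonoidalCategory AlgebraicGeometry CoactBr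
open scoped MonObj

namespace Groth.Agent.HomRep

attribute [local instance] CoactBr.braidedAlgSpecOf

variable {S : Scheme.{u}}

/-- Split pieces covering the base. -/
structure SplitCover (H : Over S) [GrpObj H] where
  κ : Type u
  R : κ → Type u
  ring : ∀ i, CommRing (R i)
  M : κ → Type
  grp : ∀ i, AddCommGroup (M i)
  p : ∀ i, Spec (CommRingCat.of (R i)) ⟶ S
  cover : DescLib.Fpqc (Limits.Sigma.desc p)
  w : ∀ i, sp (R i) (GA (R i) (M i)) ≅ Red.bc (p i) H
  hw : ∀ i, IsMonHom (w i).hom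

attribute [instance] SplitCover.ring SplitCover.grp

theorem exists_rep_piece (H G : Over S) [GrpObj H] [GrpObj G] [Smooth G.hom] [IsAffineHom G.hom] {R : Type u}
    [CommRing R] {M : Type} [AddCommGroup M] (p : Spec (CommRingCat.of R) ⟶ S) (w : sp R (GA R M) ≅ Red.bc p H)
    [IsMonHom w.hom] :
    ∃ (X : Over (Spec (CommRingCat.of R))) (v : (RepDescLib.homSec H G).obj ((Over.map p).obj X)),
      RepDescLib.IsRepOver (RepDescLib.homSec H G) (Over.homMk X.hom : (Over.map p).obj X ⟶ Over.mk p) v ∧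
      Smooth X.hom ∧ IsSeparated X.hom ∧ MoreMor.IsIndQuasiAffineHom X.hom := by
  haveI : IsAffineHom (Red.bc p G).hom := MorphismProperty.pullback_snd (P := @IsAffineHom) _ _ inferInstance
  haveI : Smooth (Red.bc p G).hom := MorphismProperty.pullback_snd (P := @Smooth) _ _ inferInstance
  haveI : IsAffine (Red.bc p G).left := isAffine_of_isAffineHom (Red.bc p G).hom
  obtain ⟨A, _, _, v, hv, -⟩ := HomCorr.exists_hopf (Red.bc p G)
  haveI : Algebra.Smooth R A := by
    haveI : IsIso v.hom.left := inferInstanceAs (IsIso ((Over.forget _).map v.hom))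
    have h : Smooth (sp R A).hom := by
      rw [← Over.w v.hom]
      infer_instance
    change Smooth (Spec.map (CommRingCat.ofHom (algebraMap R A))) at h
    rwa [HasRingHomProperty.Spec_iff (P := @Smooth), CommRingCat.hom_ofHom, RingHom.smooth_algebraMap] at h
  obtain ⟨X, u, hu, hs, hsep, hq⟩ := exists_rep_split (R := R) (A := A) (M := M)
  haveI := hv
  obtain ⟨u', hu'⟩ := exists_rep_of_iso (Red.bc p H) (Red.bc p G) w v u hu
  obtain ⟨v', hv'⟩ := exists_isRepOver_of_bc p H G u' hu'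
  exact ⟨X, v', hv', hs, hsep, hq⟩

theorem exists_representsHom (H G : Over S) [GrpObj H] [GrpObj G] (hG : Smooth G.hom) (hGa : IsAffineHom G.hom)
    (C : SplitCover H) :
    ∃ (A : Over S) (υ : H ⊗ A ⟶ G), AutFam.RepresentsHom H G A υ ∧ Smooth A.hom ∧ IsSeparated A.hom := by
  have hF := RepDescLib.isSheaf_homSec H G
  choose X v hv hs hsep hq using fun i =>
    haveI := C.hw i
    exists_rep_piece H G (C.p i) (C.w i)
  obtain ⟨A', π', u', hrep, e, he⟩ := RepDescLib.isRepOver_sigma hF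
    (P := fun i => Over.mk (C.p i)) (A := fun i => (Over.map (C.p i)).obj (X i))
    (fun i => (Over.homMk (X i).hom : (Over.map (C.p i)).obj (X i) ⟶ Over.mk (C.p i))) v hv
  haveI : DescLib.Fpqc (Over.mk (Limits.Sigma.desc fun i => (Over.mk (C.p i)).hom)).hom := C.cover
  let q := Limits.Sigma.map fun i => (X i).hom
  have hπ : π'.left = e.hom ≫ q := he
  have hiq : MoreMor.IsIndQuasiAffineHom π'.left := by
    rw [hπ]
    exact (DescLib.indQA.cancel_left_of_respectsIso e.hom q).2 (indQA_sigmaMap' _ hq)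
  obtain ⟨A₀, u₀, c, hA, -, sq⟩ := RepDescLib.exists_rep_of_cover hF hrep fun D hD =>
    effective_indQA D (by rw [hD]; exact hiq)
  have hloc : ∀ (P : MorphismProperty Scheme.{u}) [IsZariskiLocalAtTarget P], (∀ i, P (X i).hom) → P π'.left := by
    intro P _ hP
    rw [hπ]
    refine (P.cancel_left_of_respectsIso e.hom q).2 ?_
    refine IsZariskiLocalAtTarget.of_openCover (P := P) (sigmaOpenCover fun i => (Over.mk (C.p i)).left) fun i => ?_
    have hsq : IsPullback _ _ _ _ := (DescLib.isPullback_sigmaι_map (fun i => (X i).hom) i).flip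
    change P (pullback.snd q (Sigma.ι (fun i => Spec (CommRingCat.of (C.R i))) i))
    rw [← hsq.isoPullback_inv_snd]
    exact (P.cancel_left_of_respectsIso _ _).2 (hP i)
  refine ⟨A₀, u₀.1, RepDescLib.representsHom_of_rep H G u₀ hA, ?_, ?_⟩
  · exact prop_of_isPullback_fpqc @Smooth sq (hloc @Smooth hs)
  · exact isSeparated_of_isPullback_fpqc sq (hloc @IsSeparated hsep)

/-- Composing the pieces of a covering with isomorphisms. -/
theorem fpqc_precomp {κ : Type u} {V V' : κ → Scheme.{u}} (j : ∀ i, V' i ≅ V i) (q : ∀ i, V i ⟶ S)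
    [DescLib.Fpqc (Limits.Sigma.desc q)] : DescLib.Fpqc (Limits.Sigma.desc fun i => (j i).hom ≫ q i) := by
  haveI : IsIso (Limits.Sigma.map fun i => (j i).hom) := inferInstance
  refine DescLib.Fpqc.of_isPullback (p := Limits.Sigma.desc q) (g := 𝟙 S)
    (p₂ := Limits.Sigma.map fun i => (j i).hom) (IsPullback.of_vert_isIso ⟨?_⟩)
  exact Sigma.hom_ext _ _ fun i => by simp

/-- A group of multiplicative type has split pieces. -/
theorem nonempty_splitCover_of_fpqc (H : Over S) [GrpObj H] {S' : Scheme.{u}} (f : S' ⟶ S) [Flat f] [Surjective f]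
    (hcov : ∀ V : S.Opens, IsAffineOpen V → ∃ W : S'.Opens, IsCompact (W : Set S') ∧ f.base '' (W : Set S') = (V : Set S))
    (h : ∀ s' : S', ∃ U : S'.Opens, s' ∈ U ∧ ∃ (M : Type) (_ : AddCommGroup M),
      Nonempty (Grp.mk (Red.bc (U.ι ≫ f) H) ≅ Grp.mk (Red.DS (U : Scheme.{u}) M))) :
    Nonempty (SplitCover H) := by
  choose U hU M iM hiso using h
  have hV : ∀ s : S', ∃ V : S'.Opens, IsAffineOpen V ∧ s ∈ V ∧ V ≤ U s := fun s => by
    obtain ⟨V, h1, h2, h3⟩ := exists_isAffineOpen_mem_and_subset (hU s)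
    exact ⟨V, h1, h2, h3⟩
  choose V hVa hVm hVU using hV
  haveI := RepDescLib.fpqc_pieces f hcov V fun x => ⟨x, hVm x⟩
  have hc := fpqc_precomp (fun s => (hVa s).isoSpec.symm) (fun s => (V s).ι ≫ f)
  have hw : ∀ s, ∃ w : sp Γ(S', V s) (GA Γ(S', V s) (M s)) ≅ Red.bc ((hVa s).isoSpec.inv ≫ (V s).ι ≫ f) H,
      IsMonHom w.hom := fun s =>
    MultLift.exists_split_iso (Classical.choice (hiso s)) ((hVa s).isoSpec.inv ≫ S'.homOfLE (hVU s)) _
      (by rw [Category.assoc, Scheme.homOfLE_ι_assoc])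
  choose w hw using hw
  exact ⟨{
    κ := S', R := fun s => Γ(S', V s), ring := fun s => inferInstance, M := M, grp := iM
    p := fun s => (hVa s).isoSpec.inv ≫ (V s).ι ≫ f, cover := hc, w := w, hw := hw }⟩

/-- A quasi-isotrivial group of multiplicative type has split pieces. -/
theorem nonempty_splitCover_of_etale (H : Over S) [GrpObj H]
    (h : TwC.Locally S TwC.Topology.etale (fun S' g => ∃ (M : Type) (_ : AddCommGroup M),
      Nonempty (Grp.mk (Red.bc g H) ≅ Grp.mk (Red.DS S' M)))) : Nonempty (SplitCover H) := by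
  choose S' f het hs M iM hiso using h
  have hV : ∀ x : (Σ s : S, S' s), ∃ V : (S' x.1).Opens, IsAffineOpen V ∧ x.2 ∈ V := fun x => by
    obtain ⟨V, h1, h2, -⟩ := exists_isAffineOpen_mem_and_subset (X := S' x.1) (x := x.2) (U := ⊤) trivial
    exact ⟨V, h1, h2⟩
  choose V hVa hVm using hV
  let p : ∀ x : (Σ s : S, S' s), Spec Γ(S' x.1, V x) ⟶ S := fun x => (hVa x).isoSpec.inv ≫ (V x).ι ≫ f x.1
  haveI hp : ∀ x, Etale (p x) := fun x =>
    haveI := het x.1
    inferInstanceAs (Etale ((hVa x).isoSpec.inv ≫ (V x).ι ≫ f x.1))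
  haveI : Flat (Limits.Sigma.desc p) := IsZariskiLocalAtSource.sigmaDesc fun x => inferInstance
  haveI : LocallyOfFinitePresentation (Limits.Sigma.desc p) :=
    IsZariskiLocalAtSource.sigmaDesc fun x => inferInstance
  haveI : Surjective (Limits.Sigma.desc p) := ⟨fun s => by
    obtain ⟨z, hz⟩ := hs s
    refine ⟨Sigma.ι (fun x => Spec Γ(S' x.1, V x)) ⟨s, z⟩ ((hVa ⟨s, z⟩).isoSpec.hom ⟨z, hVm ⟨s, z⟩⟩), ?_⟩
    rw [← Scheme.Hom.comp_apply, Sigma.ι_desc, ← Scheme.Hom.comp_apply]
    simp only [p, Iso.hom_inv_id_assoc]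
    exact hz⟩
  haveI hc : DescLib.Fpqc (Limits.Sigma.desc p) :=
    ⟨Scheme.fppfPrecoverage_le_fpqcPrecoverage _ (Scheme.Hom.singleton_mem_fppfPrecoverage _)⟩
  have hw : ∀ x, ∃ w : sp Γ(S' x.1, V x) (GA Γ(S' x.1, V x) (M x.1)) ≅ Red.bc (p x) H, IsMonHom w.hom := fun x =>
    MultLift.exists_split_iso (Classical.choice (hiso x.1)) ((hVa x).isoSpec.inv ≫ (V x).ι) _ (Category.assoc _ _ _)
  choose w hw using hw
  exact ⟨{
    κ := Σ s : S, S' s, R := fun x => Γ(S' x.1, V x), ring := fun x => inferInstance, M := fun x => M x.1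
    grp := fun x => iM x.1, p := p, cover := hc, w := w, hw := hw }⟩

end Groth.Agent.HomRep
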