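import Mathlib.RingTheory.HopfAlgebra.Convolution
import Mathlib.RingTheory.TensorProduct.MonoidAlgebra
import Mathlib.Algebra.MonoidAlgebra.Module
import Mathlib.RingTheory.LocalRing.Module

/-!
Algebra maps into a group algebra which are compatible with the comultiplications.
-/

set_option autoImplicit false

noncomputable section

universe u

open scoped TensorProduct
open WithConv
attribute [local instance] Classical.propDecidable

namespace Groth.Agent.HomRep

/-- The group algebra. -/
abbrev GA (T : Type u) [CommRing T] (M : Type) [AddCommGroup M] : Type u := MonoidAlgebra T (Multiplicative M)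

section Maps

variable {R : Type u} [CommRing R] {T T' : Type u} [CommRing T] [Algebra R T] [CommRing T'] [Algebra R T']
  {M N : Type} [AddCommGroup M] [AddCommGroup N]

/-- The coefficient of a character. -/
def cf (m : M) : GA T M →ₗ[T] T :=
  Finsupp.lapply (Multiplicative.ofAdd m) ∘ₗ (MonoidAlgebra.coeffLinearEquiv T).toLinearMap

theorem cf_apply (m : M) (x : GA T M) : cf m x = x.coeff (Multiplicative.ofAdd m) := rfl

theorem ext_cf {x y : GA T M} (h : ∀ m, cf m x = cf m y) : x = y :=
  MonoidAlgebra.coeff_injective (Finsupp.ext fun m => h (Multiplicative.toAdd m))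

theorem cf_single [DecidableEq M] (m n : M) (t : T) :
    cf m (MonoidAlgebra.single (Multiplicative.ofAdd n) t) = if n = m then t else 0 := by
  classical
  rw [cf_apply, MonoidAlgebra.coeff_single, Finsupp.single_apply]
  simp

/-- A map of characters. -/
def mapChr (f : M →+ N) : GA T M →ₐ[R] GA T N :=
  (MonoidAlgebra.mapDomainAlgHom T T (AddMonoidHom.toMultiplicative f)).restrictScalars R

theorem mapChr_single (f : M →+ N) (m : M) (t : T) :
    mapChr (R := R) f (MonoidAlgebra.single (Multiplicative.ofAdd m) t) =
      MonoidAlgebra.single (Multiplicative.ofAdd (f m)) t := by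
  simp [mapChr]

/-- The sum of the coefficients. -/
def aug : GA T M →ₐ[R] T :=
  (MonoidAlgebra.lift T T (Multiplicative M) 1).restrictScalars R

theorem aug_single (m : M) (t : T) : aug (R := R) (MonoidAlgebra.single (Multiplicative.ofAdd m) t) = t := by
  simp [aug]

theorem aug_eq_sum (x : GA T M) (F : Finset M) (hF : ∀ m, cf m x ≠ 0 → m ∈ F) :
    aug (R := R) x = ∑ m ∈ F, cf m x := by
  classical
  have hx : x = ∑ m ∈ F, MonoidAlgebra.single (Multiplicative.ofAdd m) (cf m x) := ext_cf fun n => by
    rw [map_sum]
    simp only [cf_single]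
    rw [Finset.sum_ite_eq']
    split_ifs with h
    · rfl
    · by_contra h'
      exact h (hF n h')
  conv_lhs => rw [hx]
  simp [map_sum, aug_single]

/-- Change of coefficients. -/
def cmap (g : T →ₐ[R] T') : GA T M →ₐ[R] GA T' M where
  toRingHom := MonoidAlgebra.mapRingHom (Multiplicative M) g.toRingHom
  commutes' r := by
    show MonoidAlgebra.mapRingHom (Multiplicative M) g.toRingHom (algebraMap R (GA T M) r) = _
    simp [MonoidAlgebra.coe_algebraMap, MonoidAlgebra.singleOneRingHom]

theorem cf_cmap (g : T →ₐ[R] T') (m : M) (x : GA T M) : cf m (cmap g x) = g (cf m x) := by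
  simp [cf_apply, cmap]

theorem finite_support (x : GA T M) : {m : M | cf m x ≠ 0}.Finite := by
  refine (x.coeff.support.finite_toSet.preimage Multiplicative.ofAdd.injective.injOn).subset fun m hm => ?_
  simpa [cf_apply] using hm

end Maps

section Cmp

variable {R : Type u} [CommRing R] {A : Type u} [CommRing A] [Bialgebra R A]
  {T : Type u} [CommRing T] [Algebra R T] {M : Type} [AddCommGroup M]

/-- The compatibility of an algebra map with the comultiplications. -/
structure Cmp (φ : A →ₐ[R] GA T M) : Prop where
  mul : toConv ((mapChr (AddMonoidHom.inl M M)).comp φ) * toConv ((mapChr (AddMonoidHom.inr M M)).comp φ) =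
    toConv ((mapChr ((AddMonoidHom.id M).prod (AddMonoidHom.id M))).comp φ)
  one : (aug (R := R)).comp φ = (Algebra.ofId R T).comp (Bialgebra.counitAlgHom R A)

theorem cmap_mapChr {T' : Type u} [CommRing T'] [Algebra R T'] (g : T →ₐ[R] T') {N : Type} [AddCommGroup N]
    (f : M →+ N) : (cmap g).comp (mapChr f) = (mapChr f).comp (cmap g) := by
  refine AlgHom.ext fun x => ?_
  induction x using MonoidAlgebra.induction_linear with
  | zero => simp
  | add a b ha hb => simp only [map_add, ha, hb]
  | single m t => simp [mapChr, cmap]

theorem Cmp.map {φ : A →ₐ[R] GA T M} (hφ : Cmp φ) {T' : Type u} [CommRing T'] [Algebra R T'] (g : T →ₐ[R] T') :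
    Cmp ((cmap g).comp φ) where
  mul := by
    have h := congrArg (fun w => toConv ((cmap (M := M × M) g).comp w.ofConv)) hφ.mul
    rw [AlgHom.comp_convMul_distrib] at h
    simp only [ofConv_toConv, ← AlgHom.comp_assoc, cmap_mapChr] at h
    simpa only [← AlgHom.comp_assoc] using h
  one := by
    have : (aug (R := R)).comp (cmap g) = g.comp (aug (T := T) (M := M)) := by
      refine AlgHom.ext fun x => ?_
      induction x using MonoidAlgebra.induction_linear with
      | zero => simp
      | add a b ha hb => simp only [map_add, ha, hb]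
      | single m t => simp [aug, cmap]
    rw [← AlgHom.comp_assoc, this, AlgHom.comp_assoc, hφ.one]
    refine AlgHom.ext fun a => ?_
    simp [Algebra.ofId_apply]

/-- Compatibility on coefficients. -/
theorem Cmp.cf_mul {φ : A →ₐ[R] GA T M} (hφ : Cmp φ) (m n : M) (a : A) :
    LinearMap.mul' R T (TensorProduct.map ((cf m).restrictScalars R ∘ₗ φ.toLinearMap)
      ((cf n).restrictScalars R ∘ₗ φ.toLinearMap) (Coalgebra.comul a)) =
      if m = n then cf m (φ a) else 0 := by
  have h := congrArg (cf (T := T) (m, n)) (AlgHom.congr_fun (congrArg WithConv.ofConv hφ.mul) a)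
  simp only [ofConv_toConv, AlgHom.comp_apply] at h
  rw [show ((toConv ((mapChr (R := R) (AddMonoidHom.inl M M)).comp φ) *
    toConv ((mapChr (R := R) (AddMonoidHom.inr M M)).comp φ) : WithConv (A →ₐ[R] GA T (M × M))).ofConv) a =
      LinearMap.mul' R (GA T (M × M)) (TensorProduct.map ((mapChr (R := R) (AddMonoidHom.inl M M)).comp φ).toLinearMap
        ((mapChr (R := R) (AddMonoidHom.inr M M)).comp φ).toLinearMap (Coalgebra.comul a)) from by
      rw [AlgHom.convMul_apply]
      simp only [AlgHom.comp_toLinearMap]
      generalize Coalgebra.comul (R := R) a = z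
      induction z using TensorProduct.induction_on with
      | zero => simp
      | add x y hx hy => simp only [map_add, hx, hy]
      | tmul x y => simp] at h
  have key : ∀ x y : GA T M, cf (m, n) (mapChr (R := R) (AddMonoidHom.inl M M) x *
      mapChr (R := R) (AddMonoidHom.inr M M) y) = cf m x * cf n y := by
    intro x y
    induction x using MonoidAlgebra.induction_linear with
    | zero => simp
    | add a b ha hb => simp only [map_add, add_mul, ha, hb]
    | single i s =>
      induction y using MonoidAlgebra.induction_linear with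
      | zero => simp
      | add a b ha hb => simp only [map_add, mul_add, ha, hb]
      | single j t =>
        obtain ⟨i, rfl⟩ := Multiplicative.ofAdd.surjective i
        obtain ⟨j, rfl⟩ := Multiplicative.ofAdd.surjective j
        rw [mapChr_single, mapChr_single, MonoidAlgebra.single_mul_single, ← ofAdd_add]
        simp only [AddMonoidHom.inl_apply, AddMonoidHom.inr_apply, Prod.mk_add_mk, add_zero, zero_add, cf_single]
        by_cases h1 : i = m <;> by_cases h2 : j = n <;> simp [h1, h2]
  have key₂ : cf (m, n) (mapChr (R := R) ((AddMonoidHom.id M).prod (AddMonoidHom.id M)) (φ a)) =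
      if m = n then cf m (φ a) else 0 := by
    induction φ a using MonoidAlgebra.induction_linear with
    | zero => simp
    | add x y hx hy => simp only [map_add, hx, hy]; split_ifs <;> simp
    | single i t =>
      obtain ⟨i, rfl⟩ := Multiplicative.ofAdd.surjective i
      rw [mapChr_single, cf_single, cf_single]
      simp only [AddMonoidHom.prod_apply, AddMonoidHom.id_apply, Prod.mk.injEq]
      by_cases h1 : m = n <;> by_cases h2 : i = m <;> simp [h1, h2] <;> grind
  rw [key₂] at h
  rw [← h]
  generalize Coalgebra.comul (R := R) a = z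
  induction z using TensorProduct.induction_on with
  | zero => simp
  | add x y hx hy => simp only [map_add, hx, hy]
  | tmul x y => simp [key]

theorem Cmp.sum_cf {φ : A →ₐ[R] GA T M} (hφ : Cmp φ) (a : A) (F : Finset M) (hF : ∀ m, cf m (φ a) ≠ 0 → m ∈ F) :
    ∑ m ∈ F, cf m (φ a) = algebraMap R T (Bialgebra.counitAlgHom R A a) := by
  rw [← aug_eq_sum (R := R) _ F hF]
  exact AlgHom.congr_fun hφ.one a

end Cmp

end Groth.Agent.HomRep
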