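import Groth.Agent.HomRepLib.Basic
import Groth.Agent.RepDescLib.Hom
import Groth.Agent.DiagRepLib.Scheme
import Groth.Agent.FreeActLib.Algebra
import Mathlib.RingTheory.Bialgebra.MonoidAlgebra

/-!
Families of homomorphisms from a diagonalisable group to an affine group are compatible algebra maps.
-/

set_option autoImplicit false

noncomputable section

universe u

open CategoryTheory CategoryTheory.Limits MonoidalCategory CartesianMonoidalCategory AlgebraicGeometry CoactBr
open Opposite
open scoped MonObj TensorProduct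
open WithConv (toConv ofConv)

namespace Groth.Agent.HomRep

attribute [local instance] CoactBr.braidedAlgSpecOf

variable {R : Type u} [CommRing R] {A : Type u} [CommRing A] [HopfAlgebra R A]
  {M : Type} [AddCommGroup M] {T T' : Type u} [CommRing T] [Algebra R T] [CommRing T'] [Algebra R T']

/-- A pair of points is an isomorphism when the map on the tensor product is bijective. -/
theorem isIso_lift_pt {B C K : Type u} [CommRing B] [CommRing C] [CommRing K] [Algebra R B] [Algebra R C]
    [Algebra R K] (x : B →ₐ[R] K) (g : C →ₐ[R] K)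
    (h : Function.Bijective (Algebra.TensorProduct.lift x g fun _ _ => .all _ _)) :
    IsIso (lift (pt x) (pt g)) := by
  let e := AlgEquiv.ofBijective _ h
  have e1 := lift_pt_pt x g
  have hp : IsIso (pt (Algebra.TensorProduct.lift x g fun _ _ => .all _ _)) := by
    refine ⟨pt e.symm.toAlgHom, ?_, ?_⟩
    · rw [← pt_comp, ← pt_id]
      exact congrArg pt (AlgHom.ext fun z => e.apply_symm_apply z)
    · rw [← pt_comp, ← pt_id]
      exact congrArg pt (AlgHom.ext fun z => e.symm_apply_apply z)
  haveI : IsIso (lift (pt x) (pt g) ≫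
      Functor.LaxMonoidal.μ (algSpec (CommRingCat.of R)) (op (.of R B)) (op (.of R C))) := by
    rw [e1]
    exact hp
  have hμ : IsIso (Functor.LaxMonoidal.μ (algSpec (CommRingCat.of R)) (op (.of R B)) (op (.of R C))) :=
    (Functor.Monoidal.μIso (algSpec (CommRingCat.of R)) (op (.of R B)) (op (.of R C))).isIso_hom
  exact @IsIso.of_isIso_comp_right _ _ _ _ _ (lift (pt x) (pt g))
    (Functor.LaxMonoidal.μ (algSpec (CommRingCat.of R)) (op (.of R B)) (op (.of R C))) hμ this

/-- The characters of the group algebra. -/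
abbrev chr (R : Type u) [CommRing R] (T : Type u) [CommRing T] [Algebra R T] (M : Type) [AddCommGroup M] :
    GA R M →ₐ[R] GA T M := cmap (Algebra.ofId R T)

/-- The coefficients of the group algebra. -/
abbrev str (R : Type u) [CommRing R] (T : Type u) [CommRing T] [Algebra R T] (M : Type) [AddCommGroup M] :
    T →ₐ[R] GA T M := (Algebra.ofId T (GA T M)).restrictScalars R

theorem chr_single (m : M) (r : R) :
    chr R T M (MonoidAlgebra.single (Multiplicative.ofAdd m) r) =
      MonoidAlgebra.single (Multiplicative.ofAdd m) (algebraMap R T r) := by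
  simp [cmap, Algebra.ofId_apply]

theorem str_apply (t : T) : str R T M t = MonoidAlgebra.single 1 t := by
  simp [str, Algebra.ofId_apply, MonoidAlgebra.coe_algebraMap]

theorem bijective_lift_chr_str :
    Function.Bijective (Algebra.TensorProduct.lift (chr R T M) (str R T M) fun _ _ => .all _ _) := by
  let e : GA R M ⊗[R] T ≃ₐ[R] GA T M :=
    (Algebra.TensorProduct.comm R (GA R M) T).trans ((MonoidAlgebra.scalarTensorEquiv R T).restrictScalars R)
  have : Algebra.TensorProduct.lift (chr R T M) (str R T M) (fun _ _ => .all _ _) = e.toAlgHom := by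
    refine Algebra.TensorProduct.ext' fun a t => ?_
    induction a using MonoidAlgebra.induction_linear with
    | zero => simp
    | add p q hp hq => simp only [TensorProduct.add_tmul, map_add, hp, hq]
    | single m r =>
      obtain ⟨m, rfl⟩ := Multiplicative.ofAdd.surjective m
      simp [e, chr_single, str_apply, MonoidAlgebra.single_mul_single, MonoidAlgebra.smul_single, Algebra.ofId_apply,
        mul_comm]
  rw [this]
  exact e.bijective

theorem mapChr_str (f : M →+ M × M) : (mapChr f).comp (str R T M) = str R T (M × M) :=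
  AlgHom.ext fun t => by simp [str_apply, mapChr]

/-- The group times an affine scheme as a spectrum. -/
def jH (R : Type u) [CommRing R] (T : Type u) [CommRing T] [Algebra R T] (M : Type) [AddCommGroup M] :
    sp R (GA T M) ⟶ sp R (GA R M) ⊗ sp R T :=
  lift (pt (chr R T M)) (pt (str R T M))

instance : IsIso (jH R T M) := isIso_lift_pt _ _ bijective_lift_chr_str

/-- The family of an algebra map. -/
def fam (φ : A →ₐ[R] GA T M) : sp R (GA R M) ⊗ sp R T ⟶ sp R A := inv (jH R T M) ≫ pt φ

theorem jH_fam (φ : A →ₐ[R] GA T M) : jH R T M ≫ fam φ = pt φ := IsIso.hom_inv_id_assoc _ _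

theorem exists_fam (f : sp R (GA R M) ⊗ sp R T ⟶ sp R A) : ∃ φ : A →ₐ[R] GA T M, fam φ = f := by
  obtain ⟨φ, hφ⟩ := DiagRep.exists_pt (jH R T M ≫ f)
  exact ⟨φ, by rw [fam, ← hφ, IsIso.inv_hom_id_assoc]⟩

theorem fam_injective : Function.Injective (fam (R := R) (A := A) (T := T) (M := M)) := fun φ ψ h => by
  have := congrArg (jH R T M ≫ ·) h
  simp only [jH_fam] at this
  exact pt_injective this

theorem whiskerLeft_fam (g : T →ₐ[R] T') (φ : A →ₐ[R] GA T M) :
    (sp R (GA R M) ◁ pt g) ≫ fam φ = fam ((cmap g).comp φ) := by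
  have e1 : (cmap g).comp (chr R T M) = chr R T' M := AlgHom.ext fun x => by
    induction x using MonoidAlgebra.induction_linear with
    | zero => simp
    | add p q hp hq => simp only [map_add, hp, hq]
    | single m r => simp [cmap, Algebra.ofId_apply]
  have e2 : (cmap g).comp (str R T M) = (str R T' M).comp g := AlgHom.ext fun t => by simp [str_apply, cmap]
  have key : pt (cmap g) ≫ jH R T M = jH R T' M ≫ (sp R (GA R M) ◁ pt g) := by
    rw [jH, jH, comp_lift, lift_whiskerLeft, ← pt_comp, ← pt_comp, ← pt_comp, e1, e2]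
  rw [← cancel_epi (jH R T' M), ← Category.assoc, ← key, Category.assoc, jH_fam, jH_fam, ← pt_comp]

/-- Evaluation of a family at a pair of characters. -/
theorem lift_pt_fam {N : Type} [AddCommGroup N] (f : M →+ N) (φ : A →ₐ[R] GA T M) :
    lift (pt ((mapChr f).comp (chr R T M))) (pt (str R T N)) ≫ fam φ = pt ((mapChr f).comp φ) := by
  have e : (mapChr f).comp (str R T M) = str R T N := AlgHom.ext fun t => by simp [str_apply, mapChr]
  rw [pt_comp φ, ← jH_fam φ, ← Category.assoc, jH, comp_lift, ← pt_comp, ← pt_comp, e]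

theorem conv_chr :
    toConv ((mapChr (R := R) (AddMonoidHom.inl M M)).comp (chr R T M)) *
        toConv ((mapChr (AddMonoidHom.inr M M)).comp (chr R T M)) =
      toConv ((mapChr ((AddMonoidHom.id M).prod (AddMonoidHom.id M))).comp (chr R T M)) := by
  refine WithConv.ofConv_injective (MonoidAlgebra.algHom_ext (fun m => ?_) (Subsingleton.elim _ _))
  obtain ⟨m, rfl⟩ := Multiplicative.ofAdd.surjective m
  rw [AlgHom.convMul_apply]
  simp [MonoidAlgebra.comul_single, mapChr_single, MonoidAlgebra.single_mul_single, ← ofAdd_add,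
    chr_single, Algebra.ofId_apply]

theorem cmp_of_isHomFamily {φ : A →ₐ[R] GA T M}
    (h : AutFam.IsHomFamily (sp R (GA R M)) (sp R A) (fam φ)) : Cmp φ where
  mul := by
    have h1 := h (sp R (GA T (M × M))) (pt ((mapChr (AddMonoidHom.inl M M)).comp (chr R T M)))
      (pt ((mapChr (AddMonoidHom.inr M M)).comp (chr R T M))) (pt (str R T (M × M)))
    rw [DiagRep.pt_mul_conv, conv_chr, WithConv.ofConv_toConv, lift_pt_fam, lift_pt_fam, lift_pt_fam,
      DiagRep.pt_mul_conv] at h1
    exact (WithConv.ofConv_injective (pt_injective h1)).symm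
  one := by
    have e1 : (aug (R := R) (T := T) (M := M)).comp (chr R T M) =
        (Algebra.ofId R T).comp (Bialgebra.counitAlgHom R (GA R M)) := by
      refine MonoidAlgebra.algHom_ext (fun m => ?_) (Subsingleton.elim _ _)
      obtain ⟨m, rfl⟩ := Multiplicative.ofAdd.surjective m
      simp [chr_single, aug_single, Algebra.ofId_apply]
    have e2 : (aug (R := R) (T := T) (M := M)).comp (str R T M) = AlgHom.id R T :=
      AlgHom.ext fun t => by simp [str_apply, aug]
    have e3 : lift (1 : sp R T ⟶ sp R (GA R M)) (𝟙 (sp R T)) ≫ fam φ = pt ((aug (R := R)).comp φ) := by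
      rw [pt_comp φ, ← jH_fam φ, ← Category.assoc, jH, comp_lift, ← pt_comp, ← pt_comp, e1, e2, DiagRep.pt_one, pt_id]
    have h1 := h (sp R T) 1 1 (𝟙 _)
    rw [_root_.one_mul] at h1
    have h2 : lift (1 : sp R T ⟶ sp R (GA R M)) (𝟙 (sp R T)) ≫ fam φ = 1 := mul_eq_left.mp h1.symm
    rw [e3, ← DiagRep.pt_one] at h2
    exact pt_injective h2

theorem bijective_lift_inl_inr :
    Function.Bijective (Algebra.TensorProduct.lift (mapChr (R := R) (T := T) (AddMonoidHom.inl M M))
      ((mapChr (AddMonoidHom.inr M M)).comp (chr R T M)) fun _ _ => .all _ _) := by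
  let F := Algebra.TensorProduct.lift (mapChr (R := R) (T := T) (AddMonoidHom.inl M M))
    ((mapChr (AddMonoidHom.inr M M)).comp (chr R T M)) fun _ _ => .all _ _
  let χ : Multiplicative (M × M) →* GA T M ⊗[R] GA R M :=
    { toFun := fun p => MonoidAlgebra.of T (Multiplicative M) (Multiplicative.ofAdd p.toAdd.1) ⊗ₜ[R]
        MonoidAlgebra.of R (Multiplicative M) (Multiplicative.ofAdd p.toAdd.2)
      map_one' := by
        rw [Algebra.TensorProduct.one_def, ← map_one (MonoidAlgebra.of T (Multiplicative M)),
          ← map_one (MonoidAlgebra.of R (Multiplicative M))]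
        rfl
      map_mul' := fun p q => by
        rw [Algebra.TensorProduct.tmul_mul_tmul, ← map_mul (MonoidAlgebra.of T (Multiplicative M)),
          ← map_mul (MonoidAlgebra.of R (Multiplicative M))]
        rfl }
  let G : GA T (M × M) →ₐ[T] GA T M ⊗[R] GA R M := MonoidAlgebra.lift T _ (Multiplicative (M × M)) χ
  have hFG : ∀ x, F (G x) = x := fun x => by
    induction x using MonoidAlgebra.induction_linear with
    | zero => simp
    | add p q hp hq => simp only [map_add, hp, hq]
    | single p t =>
      obtain ⟨⟨m, n⟩, rfl⟩ := Multiplicative.ofAdd.surjective p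
      simp [F, G, χ, TensorProduct.smul_tmul', MonoidAlgebra.smul_single, mapChr_single, chr_single,
        MonoidAlgebra.single_mul_single, ← ofAdd_add, Algebra.ofId_apply]
  have hGF : ∀ z, G (F z) = z := fun z => by
    induction z using TensorProduct.induction_on with
    | zero => simp
    | add p q hp hq => simp only [map_add, hp, hq]
    | tmul a b =>
      induction a using MonoidAlgebra.induction_linear with
      | zero => simp
      | add p q hp hq => simp only [TensorProduct.add_tmul, map_add, hp, hq]
      | single m t =>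
        induction b using MonoidAlgebra.induction_linear with
        | zero => simp
        | add p q hp hq => simp only [TensorProduct.tmul_add, map_add, hp, hq]
        | single n r =>
          obtain ⟨m, rfl⟩ := Multiplicative.ofAdd.surjective m
          obtain ⟨n, rfl⟩ := Multiplicative.ofAdd.surjective n
          simp [F, G, χ, mapChr_single, chr_single, MonoidAlgebra.single_mul_single, ← ofAdd_add,
            Algebra.ofId_apply, TensorProduct.smul_tmul', MonoidAlgebra.smul_single]
          rw [_root_.mul_comm t, ← Algebra.smul_def, ← MonoidAlgebra.smul_single, TensorProduct.smul_tmul, MonoidAlgebra.smul_single, smul_eq_mul,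
            _root_.mul_one]
  exact ⟨Function.LeftInverse.injective hGF, Function.RightInverse.surjective hFG⟩

theorem isHomFamily_fam {φ : A →ₐ[R] GA T M} (h : Cmp φ) :
    AutFam.IsHomFamily (sp R (GA R M)) (sp R A) (fam φ) := by
  intro X g₁ g₂ t
  let k : sp R (GA T (M × M)) ⟶ sp R (GA T M) ⊗ sp R (GA R M) :=
    lift (pt (mapChr (AddMonoidHom.inl M M))) (pt ((mapChr (AddMonoidHom.inr M M)).comp (chr R T M)))
  haveI : IsIso k := isIso_lift_pt _ _ bijective_lift_inl_inr
  let a : sp R (GA T (M × M)) ⟶ sp R (GA R M) := pt ((mapChr (AddMonoidHom.inl M M)).comp (chr R T M))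
  let b : sp R (GA T (M × M)) ⟶ sp R (GA R M) := pt ((mapChr (AddMonoidHom.inr M M)).comp (chr R T M))
  let w : sp R (GA T (M × M)) ⟶ sp R T := pt (str R T (M × M))
  let p : X ⟶ sp R (GA T (M × M)) := lift (lift g₁ t ≫ inv (jH R T M)) g₂ ≫ inv k
  have hp : p ≫ k = lift (lift g₁ t ≫ inv (jH R T M)) g₂ := by simp [p]
  have hp1 : p ≫ pt (mapChr (AddMonoidHom.inl M M)) = lift g₁ t ≫ inv (jH R T M) := by
    have := congrArg (· ≫ fst _ _) hp
    simpa [k] using this
  have hb : p ≫ b = g₂ := by
    have := congrArg (· ≫ snd _ _) hp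
    simpa [k, b] using this
  have hp2 : p ≫ pt (mapChr (AddMonoidHom.inl M M)) ≫ jH R T M = lift g₁ t := by
    rw [← Category.assoc, hp1, Category.assoc, IsIso.inv_hom_id, Category.comp_id]
  have he : pt (mapChr (R := R) (AddMonoidHom.inl M M)) ≫ jH R T M = lift a w := by
    rw [jH, comp_lift, ← pt_comp, ← pt_comp, mapChr_str]
  rw [he, comp_lift] at hp2
  have ha : p ≫ a = g₁ := by simpa using congrArg (· ≫ fst _ _) hp2
  have hw : p ≫ w = t := by simpa using congrArg (· ≫ snd _ _) hp2
  have key : lift (a * b) w ≫ fam φ = (lift a w ≫ fam φ) * (lift b w ≫ fam φ) := by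
    show lift (pt _ * pt _) (pt _) ≫ fam φ = (lift (pt _) (pt _) ≫ fam φ) * (lift (pt _) (pt _) ≫ fam φ)
    rw [DiagRep.pt_mul_conv, conv_chr, WithConv.ofConv_toConv, lift_pt_fam, lift_pt_fam, lift_pt_fam,
      DiagRep.pt_mul_conv, h.mul, WithConv.ofConv_toConv]
  have := congrArg (p ≫ ·) key
  simp only [MonObj.comp_mul, comp_lift_assoc, MonObj.comp_mul, ha, hb, hw] at this
  exact this

/-- The section of a compatible map. -/
def toSec (φ : A →ₐ[R] GA T M) (h : Cmp φ) : (RepDescLib.homSec (sp R (GA R M)) (sp R A)).obj (sp R T) :=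
  ⟨fam φ, isHomFamily_fam h⟩

theorem exists_toSec (s : (RepDescLib.homSec (sp R (GA R M)) (sp R A)).obj (sp R T)) :
    ∃ φ : A →ₐ[R] GA T M, ∃ h : Cmp φ, toSec φ h = s := by
  obtain ⟨φ, hφ⟩ := exists_fam s.1
  exact ⟨φ, cmp_of_isHomFamily (hφ ▸ s.2), Subtype.ext hφ⟩

theorem res_toSec (g : T →ₐ[R] T') (φ : A →ₐ[R] GA T M) (h : Cmp φ) :
    (RepDescLib.homSec (sp R (GA R M)) (sp R A)).res (pt g) (toSec φ h) = toSec ((cmap g).comp φ) (h.map g) :=
  Subtype.ext (whiskerLeft_fam g φ)

theorem toSec_injective {φ ψ : A →ₐ[R] GA T M} {h : Cmp φ} {h' : Cmp ψ} (e : toSec φ h = toSec ψ h') : φ = ψ :=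
  fam_injective (congrArg Subtype.val e)

end Groth.Agent.HomRep
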