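import Groth.Agent.HomRepLib.Weight
import Mathlib.RingTheory.Smooth.NoetherianDescent
import Mathlib.RingTheory.Smooth.Flat
import Mathlib.RingTheory.Flat.Basic
import Mathlib.RingTheory.Noetherian.Basic
import Mathlib.RingTheory.Bialgebra.Basic

/-!
Finitely generated comodules generating the algebra of a smooth group.
-/

set_option autoImplicit false

noncomputable section

universe u

open scoped TensorProduct

namespace Groth.Agent.HomRep

attribute [local instance] Classical.propDecidable

section Model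

variable {R : Type u} [CommRing R] {R₁ : Type u} [CommRing R₁] [Algebra R₁ R] {A : Type u} [CommRing A]
  [Bialgebra R A] [Algebra R₁ A] [IsScalarTower R₁ R A] {B : Type u} [CommRing B] [Algebra R₁ B]
  (e : A ≃ₐ[R] R ⊗[R₁] B)

/-- The inclusion of the model. -/
def inc : B →ₐ[R₁] A := (e.symm.toAlgHom.restrictScalars R₁).comp Algebra.TensorProduct.includeRight

/-- The inclusion on two factors. -/
def inc₂ : B ⊗[R₁] B →ₐ[R₁] A ⊗[R] A :=
  Algebra.TensorProduct.lift
    (((Algebra.TensorProduct.includeLeft : A →ₐ[R] A ⊗[R] A).restrictScalars R₁).comp (inc e))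
    (((Algebra.TensorProduct.includeRight : A →ₐ[R] A ⊗[R] A).restrictScalars R₁).comp (inc e))
    fun _ _ => Commute.all _ _

theorem inc₂_tmul (x y : B) : inc₂ e (x ⊗ₜ y) = inc e x ⊗ₜ inc e y := by
  simp [inc₂]

/-- The inclusion on three factors. -/
def inc₃ : B ⊗[R₁] (B ⊗[R₁] B) →ₐ[R₁] A ⊗[R] (A ⊗[R] A) :=
  Algebra.TensorProduct.lift
    (((Algebra.TensorProduct.includeLeft : A →ₐ[R] A ⊗[R] (A ⊗[R] A)).restrictScalars R₁).comp (inc e))
    (((Algebra.TensorProduct.includeRight : A ⊗[R] A →ₐ[R] A ⊗[R] (A ⊗[R] A)).restrictScalars R₁).comp (inc₂ e))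
    fun _ _ => Commute.all _ _

theorem inc₃_tmul (x : B) (y : B ⊗[R₁] B) : inc₃ e (x ⊗ₜ y) = inc e x ⊗ₜ inc₂ e y := by
  simp [inc₃]

variable (hR : Function.Injective (algebraMap R₁ R)) [Module.Flat R₁ B]

theorem e_inc (b : B) : e (inc e b) = 1 ⊗ₜ b := by simp [inc]

include hR in
omit e [Bialgebra R A] [Algebra R₁ A] [IsScalarTower R₁ R A] in
theorem includeRight_injective' (X : Type u) [CommRing X] [Algebra R₁ X] [Module.Flat R₁ X] :
    Function.Injective (Algebra.TensorProduct.includeRight : X →ₐ[R₁] R ⊗[R₁] X) := by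
  have h := Module.Flat.rTensor_preserves_injective_linearMap (M := X) (Algebra.linearMap R₁ R) hR
  intro a b hab
  have e1 : ∀ x : X, LinearMap.rTensor X (Algebra.linearMap R₁ R) ((1 : R₁) ⊗ₜ[R₁] x) = (1 : R) ⊗ₜ[R₁] x := fun x => by
    simp
  have := h (((e1 a).trans hab).trans (e1 b).symm)
  simpa using congrArg (TensorProduct.lid R₁ X) this

include hR in
theorem inc_injective : Function.Injective (inc e) := fun a b h =>
  includeRight_injective' hR B (by simpa [e_inc] using congrArg e h)

/-- The map back on two factors. -/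
def back₂ : A ⊗[R] A →ₐ[R] R ⊗[R₁] (B ⊗[R₁] B) :=
  Algebra.TensorProduct.lift
    ((Algebra.TensorProduct.map (AlgHom.id R R) Algebra.TensorProduct.includeLeft).comp e.toAlgHom)
    ((Algebra.TensorProduct.map (AlgHom.id R R) Algebra.TensorProduct.includeRight).comp e.toAlgHom)
    fun _ _ => Commute.all _ _

theorem back₂_inc₂ (z : B ⊗[R₁] B) : back₂ e (inc₂ e z) = 1 ⊗ₜ z := by
  induction z using TensorProduct.induction_on with
  | zero => simp
  | add x y hx hy => simp only [map_add, TensorProduct.tmul_add, hx, hy]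
  | tmul x y => simp [back₂, inc₂_tmul, e_inc]

include hR in
theorem inc₂_injective : Function.Injective (inc₂ e) := fun a b h =>
  includeRight_injective' hR (B ⊗[R₁] B) (by simpa [back₂_inc₂] using congrArg (back₂ e) h)

set_option backward.isDefEq.respectTransparency false in
/-- The map back on three factors. -/
def back₃ : A ⊗[R] (A ⊗[R] A) →ₐ[R] R ⊗[R₁] (B ⊗[R₁] (B ⊗[R₁] B)) :=
  Algebra.TensorProduct.lift
    ((Algebra.TensorProduct.map (AlgHom.id R R) Algebra.TensorProduct.includeLeft).comp e.toAlgHom)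
    ((Algebra.TensorProduct.map (AlgHom.id R R) Algebra.TensorProduct.includeRight).comp (back₂ e))
    fun _ _ => Commute.all (S := R ⊗[R₁] (B ⊗[R₁] (B ⊗[R₁] B))) _ _

include hR in
theorem inc₃_injective : Function.Injective (inc₃ e) := by
  have key : ∀ z, back₃ e (inc₃ e z) = 1 ⊗ₜ z := by
    intro z
    induction z using TensorProduct.induction_on with
    | zero => simp
    | add x y hx hy => simp only [map_add, TensorProduct.tmul_add, hx, hy]
    | tmul x y => simp [back₃, inc₃_tmul, e_inc, back₂_inc₂]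
  exact fun a b h => includeRight_injective' hR _ (by simpa [key] using congrArg (back₃ e) h)

variable [IsNoetherianRing R₁] {ι : Type} [Fintype ι] (x : ι → B) (hx : Algebra.adjoin R₁ (Set.range x) = ⊤)
  (hΔ : ∀ i, CoalgebraStruct.comul (R := R) (inc e (x i)) ∈ (inc₂ e).range)
  (hε : ∀ i, CoalgebraStruct.counit (R := R) (inc e (x i)) ∈ (Algebra.ofId R₁ R).range)

include hR hx hΔ hε in
theorem nonempty_genComod : Nonempty (GenComod R A) := by
  -- the structure maps of the model
  have hΔ' : ∀ b, CoalgebraStruct.comul (R := R) (inc e b) ∈ (inc₂ e).range := by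
    intro b
    have hb : b ∈ Algebra.adjoin R₁ (Set.range x) := hx ▸ Algebra.mem_top
    have hle : Algebra.adjoin R₁ (Set.range x) ≤
        (inc₂ e).range.comap (((Bialgebra.comulAlgHom R A).restrictScalars R₁).comp (inc e)) := by
      rw [Algebra.adjoin_le_iff]
      rintro _ ⟨i, rfl⟩
      exact hΔ i
    exact hle hb
  have hε' : ∀ b, CoalgebraStruct.counit (R := R) (inc e b) ∈ (Algebra.ofId R₁ R).range := by
    intro b
    have hb : b ∈ Algebra.adjoin R₁ (Set.range x) := hx ▸ Algebra.mem_top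
    have hle : Algebra.adjoin R₁ (Set.range x) ≤
        (Algebra.ofId R₁ R).range.comap (((Bialgebra.counitAlgHom R A).restrictScalars R₁).comp (inc e)) := by
      rw [Algebra.adjoin_le_iff]
      rintro _ ⟨i, rfl⟩
      exact hε i
    exact hle hb
  let Δ₁ : B →ₐ[R₁] B ⊗[R₁] B := ((AlgEquiv.ofInjective _ (inc₂_injective e hR)).symm : _ →ₐ[R₁] _).comp
    (((((Bialgebra.comulAlgHom R A).restrictScalars R₁).comp (inc e))).codRestrict _ hΔ')
  have hΔ₁ : ∀ b, inc₂ e (Δ₁ b) = CoalgebraStruct.comul (R := R) (inc e b) := fun b =>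
    congrArg Subtype.val ((AlgEquiv.ofInjective _ (inc₂_injective e hR)).apply_symm_apply _)
  let ε₁ : B →ₐ[R₁] R₁ := ((AlgEquiv.ofInjective (Algebra.ofId R₁ R) hR).symm : _ →ₐ[R₁] _).comp
    (((((Bialgebra.counitAlgHom R A).restrictScalars R₁).comp (inc e))).codRestrict _ hε')
  have hε₁ : ∀ b, algebraMap R₁ R (ε₁ b) = CoalgebraStruct.counit (R := R) (inc e b) := fun b =>
    congrArg Subtype.val ((AlgEquiv.ofInjective (Algebra.ofId R₁ R) hR).apply_symm_apply _)
  -- counit law
  have hcu : ∀ b, TensorProduct.rid R₁ B (TensorProduct.map LinearMap.id ε₁.toLinearMap (Δ₁ b)) = b := by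
    intro b
    refine inc_injective e hR ?_
    have h := congrArg (TensorProduct.rid R A) (Coalgebra.lTensor_counit_comul (R := R) (inc e b))
    rw [TensorProduct.rid_tmul, one_smul] at h
    rw [← hΔ₁] at h
    refine Eq.trans ?_ h
    generalize Δ₁ b = z
    induction z using TensorProduct.induction_on with
    | zero => simp
    | add p q hp hq => simp only [map_add, hp, hq]
    | tmul p q =>
      simp [inc₂_tmul, ← hε₁]
  -- a stable finitely generated module containing the generators
  have hN : ∃ N : Submodule R₁ B, N.FG ∧ ∀ i, Δ₁ (x i) ∈ LinearMap.range (LinearMap.rTensor B N.subtype) := by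
    choose N hfg y' hy' using fun i : ι => Submodule.exists_fg_le_eq_rTensor_subtype (Δ₁ (x i))
    refine ⟨⨆ i, N i, Submodule.fg_iSup _ hfg, fun i => ?_⟩
    have hy := (hy' i).symm
    refine ⟨LinearMap.rTensor B (Submodule.inclusion (le_iSup N i)) (y' i), ?_⟩
    rw [← LinearMap.rTensor_comp_apply, Submodule.subtype_comp_inclusion, hy]
  obtain ⟨N, hNfg, hxN⟩ := hN
  let θ : B →ₗ[R₁] (B ⧸ N) ⊗[R₁] B := LinearMap.rTensor B N.mkQ ∘ₗ Δ₁.toLinearMap
  let W : Submodule R₁ B := LinearMap.ker θ
  have hexN : ∀ z : B ⊗[R₁] B, LinearMap.rTensor B N.mkQ z = 0 → z ∈ LinearMap.range (LinearMap.rTensor B N.subtype) :=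
    fun z hz => (rTensor_exact B (LinearMap.exact_subtype_mkQ N) N.mkQ_surjective z).1 hz
  have hWN : W ≤ N := fun w hw => by
    rw [← hcu w]
    obtain ⟨y, hy⟩ := hexN (Δ₁ w) (LinearMap.mem_ker.1 hw)
    rw [← hy]
    clear hy
    induction y using TensorProduct.induction_on with
    | zero => simp
    | add p q hp hq => simp only [map_add]; exact N.add_mem hp hq
    | tmul p q => simpa using N.smul_mem _ p.2
  haveI : Module.Finite R₁ N := Module.Finite.iff_fg.2 hNfg
  haveI hWfin : Module.Finite R₁ W := Module.Finite.of_injective (Submodule.inclusion hWN) (Submodule.inclusion_injective _)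
  have hxW : ∀ i, x i ∈ W := fun i => by
    obtain ⟨y, hy⟩ := hxN i
    show LinearMap.rTensor B N.mkQ (Δ₁ (x i)) = 0
    rw [← hy, ← LinearMap.rTensor_comp_apply, (LinearMap.exact_subtype_mkQ N).linearMap_comp_eq_zero]
    simp
  have hco : ∀ b, inc₃ e (TensorProduct.assoc R₁ B B B (LinearMap.rTensor B Δ₁.toLinearMap (Δ₁ b))) =
      inc₃ e (LinearMap.lTensor B Δ₁.toLinearMap (Δ₁ b)) := by
    intro b
    have h := Coalgebra.coassoc_apply (R := R) (inc e b)
    rw [← hΔ₁] at h
    refine Eq.trans ?_ (h.trans ?_)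
    · generalize Δ₁ b = z
      induction z using TensorProduct.induction_on with
      | zero => simp
      | add p q hp hq => simp only [map_add, hp, hq]
      | tmul p q =>
        rw [inc₂_tmul, LinearMap.rTensor_tmul, LinearMap.rTensor_tmul, AlgHom.toLinearMap_apply, ← hΔ₁]
        generalize Δ₁ p = z
        induction z using TensorProduct.induction_on with
        | zero => simp
        | add r s hr hs => simp only [map_add, TensorProduct.add_tmul, hr, hs]
        | tmul r s => simp [inc₃_tmul, inc₂_tmul]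
    · generalize Δ₁ b = z
      induction z using TensorProduct.induction_on with
      | zero => simp
      | add p q hp hq => simp only [map_add, hp, hq]
      | tmul p q =>
        rw [inc₂_tmul, LinearMap.lTensor_tmul, LinearMap.lTensor_tmul, AlgHom.toLinearMap_apply, inc₃_tmul, hΔ₁]
  have hstable : ∀ w : W, Δ₁ w ∈ LinearMap.range (LinearMap.rTensor B W.subtype) := by
    intro w
    have hex : Function.Exact (LinearMap.rTensor B W.subtype) (LinearMap.rTensor B θ) :=
      Module.Flat.rTensor_exact B (LinearMap.exact_subtype_ker_map θ)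
    refine (hex (Δ₁ w)).1 ?_
    have hθ : LinearMap.rTensor B θ = LinearMap.rTensor B (LinearMap.rTensor B N.mkQ) ∘ₗ
        LinearMap.rTensor B Δ₁.toLinearMap := LinearMap.rTensor_comp _ _ _
    apply (TensorProduct.assoc R₁ (B ⧸ N) B B).injective
    rw [map_zero, hθ, LinearMap.comp_apply]
    have e1 : ∀ z : (B ⊗[R₁] B) ⊗[R₁] B, TensorProduct.assoc R₁ (B ⧸ N) B B (LinearMap.rTensor B (LinearMap.rTensor B N.mkQ) z) =
        LinearMap.rTensor (B ⊗[R₁] B) N.mkQ (TensorProduct.assoc R₁ B B B z) := fun z => by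
      induction z using TensorProduct.induction_on with
      | zero => simp
      | add p q hp hq => simp only [map_add, hp, hq]
      | tmul p q =>
        induction p using TensorProduct.induction_on with
        | zero => simp
        | add r s hr hs => simp only [map_add, TensorProduct.add_tmul, hr, hs]
        | tmul r s => simp
    rw [e1, inc₃_injective e hR (hco w), ← LinearMap.comp_apply, LinearMap.rTensor_comp_lTensor,
      ← LinearMap.lTensor_comp_rTensor, LinearMap.comp_apply]
    have h0 : LinearMap.rTensor B N.mkQ (Δ₁ w) = 0 := LinearMap.mem_ker.1 w.2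
    rw [h0, map_zero]
  have hinjW : Function.Injective (LinearMap.rTensor B W.subtype) :=
    Module.Flat.rTensor_preserves_injective_linearMap _ W.injective_subtype
  let δ₁ : W →ₗ[R₁] W ⊗[R₁] B := (LinearEquiv.ofInjective _ hinjW).symm.toLinearMap ∘ₗ
    ((Δ₁.toLinearMap ∘ₗ W.subtype).codRestrict _ hstable)
  have hδ₁ : ∀ w, LinearMap.rTensor B W.subtype (δ₁ w) = Δ₁ w := fun w =>
    congrArg Subtype.val ((LinearEquiv.ofInjective _ hinjW).apply_symm_apply _)
  have hco₁ : ∀ w, TensorProduct.assoc R₁ W B B (LinearMap.rTensor B δ₁ (δ₁ w)) =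
      LinearMap.lTensor W Δ₁.toLinearMap (δ₁ w) := by
    intro w
    refine Module.Flat.rTensor_preserves_injective_linearMap (M := B ⊗[R₁] B) _ W.injective_subtype
      (inc₃_injective e hR ?_)
    refine Eq.trans ?_ ((hco w).trans ?_)
    · congr 1
      rw [← hδ₁ w]
      generalize δ₁ w = z
      induction z using TensorProduct.induction_on with
      | zero => simp
      | add p q hp hq => simp only [map_add, hp, hq]
      | tmul p q =>
        simp only [LinearMap.rTensor_tmul, Submodule.subtype_apply, AlgHom.toLinearMap_apply]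
        rw [← hδ₁ p]
        generalize δ₁ p = y
        induction y using TensorProduct.induction_on with
        | zero => simp
        | add r s hr hs => simp only [map_add, TensorProduct.add_tmul, hr, hs]
        | tmul r s => simp
    · congr 1
      rw [← hδ₁ w, ← LinearMap.comp_apply, LinearMap.lTensor_comp_rTensor, ← LinearMap.rTensor_comp_lTensor,
        LinearMap.comp_apply]
  -- base change
  let μ : W ⊗[R₁] B →ₗ[R₁] (R ⊗[R₁] W) ⊗[R] A :=
    TensorProduct.lift (LinearMap.mk₂ R₁ (fun w b => ((1 : R) ⊗ₜ[R₁] w) ⊗ₜ[R] inc e b)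
      (fun a b c => by simp [TensorProduct.tmul_add, TensorProduct.add_tmul])
      (fun c a b => by simp [TensorProduct.tmul_smul, TensorProduct.smul_tmul'])
      (fun a b c => by simp [TensorProduct.tmul_add])
      (fun c a b => by simp [TensorProduct.tmul_smul]))
  let δ : R ⊗[R₁] W →ₗ[R] (R ⊗[R₁] W) ⊗[R] A := LinearMap.liftBaseChange R (μ ∘ₗ δ₁)
  have hμ : ∀ w b, μ (w ⊗ₜ b) = ((1 : R) ⊗ₜ[R₁] w) ⊗ₜ[R] inc e b := fun w b => rfl
  have hδ : ∀ w, δ ((1 : R) ⊗ₜ w) = μ (δ₁ w) := fun w => by simp [δ]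
  let j : R ⊗[R₁] W →ₗ[R] A := LinearMap.liftBaseChange R ((inc e).toLinearMap ∘ₗ W.subtype)
  have hj : ∀ w, j ((1 : R) ⊗ₜ w) = inc e (w : B) := fun w => by simp [j]
  have hext : ∀ {E : Type u} [AddCommMonoid E] [Module R E] (a b : R ⊗[R₁] W →ₗ[R] E),
      (∀ w, a (1 ⊗ₜ w) = b (1 ⊗ₜ w)) → ∀ v, a v = b v := fun a b h v => by
    induction v using TensorProduct.induction_on with
    | zero => simp
    | add p q hp hq => simp only [map_add, hp, hq]
    | tmul r w => rw [← mul_one r, ← smul_eq_mul, ← TensorProduct.smul_tmul', map_smul, map_smul, h]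
  refine ⟨{ V := R ⊗[R₁] W, δ := δ, j := j, coassoc := ?_, counit := ?_, j_comul := ?_, gen := ?_ }⟩
  · refine hext ((TensorProduct.assoc R (R ⊗[R₁] W) A A).toLinearMap ∘ₗ TensorProduct.map δ LinearMap.id ∘ₗ δ)
      (TensorProduct.map LinearMap.id (CoalgebraStruct.comul (R := R) (A := A)) ∘ₗ δ) fun w => ?_
    simp only [LinearMap.comp_apply, LinearEquiv.coe_coe, hδ]
    let μ₃ : W ⊗[R₁] (B ⊗[R₁] B) →ₗ[R₁] (R ⊗[R₁] W) ⊗[R] (A ⊗[R] A) :=
      TensorProduct.lift (LinearMap.mk₂ R₁ (fun w b => ((1 : R) ⊗ₜ[R₁] w) ⊗ₜ[R] inc₂ e b)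
        (fun a b c => by simp [TensorProduct.tmul_add, TensorProduct.add_tmul])
        (fun c a b => by simp [TensorProduct.tmul_smul, TensorProduct.smul_tmul'])
        (fun a b c => by simp [TensorProduct.tmul_add])
        (fun c a b => by simp [TensorProduct.tmul_smul]))
    refine Eq.trans ?_ ((congrArg μ₃ (hco₁ w)).trans ?_)
    · generalize δ₁ w = z
      induction z using TensorProduct.induction_on with
      | zero => simp
      | add p q hp hq => simp only [map_add, hp, hq]
      | tmul p q =>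
        rw [hμ, TensorProduct.map_tmul, LinearMap.id_apply, hδ, LinearMap.rTensor_tmul]
        generalize δ₁ p = y
        induction y using TensorProduct.induction_on with
        | zero => simp
        | add r s hr hs => simp only [map_add, TensorProduct.add_tmul, hr, hs]
        | tmul r s => simp [μ₃, hμ, inc₂_tmul]
    · generalize δ₁ w = z
      induction z using TensorProduct.induction_on with
      | zero => simp
      | add p q hp hq => simp only [map_add, hp, hq]
      | tmul p q => simp [μ₃, hμ, ← hΔ₁]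
  · refine hext ((TensorProduct.rid R (R ⊗[R₁] W)).toLinearMap ∘ₗ
      TensorProduct.map LinearMap.id (CoalgebraStruct.counit (R := R) (A := A)) ∘ₗ δ) LinearMap.id fun w => ?_
    simp only [LinearMap.comp_apply, LinearEquiv.coe_coe, hδ, LinearMap.id_apply]
    have hcu₁ : TensorProduct.rid R₁ W (LinearMap.lTensor W ε₁.toLinearMap (δ₁ w)) = w := by
      refine Subtype.ext (Eq.trans ?_ (hcu w))
      rw [← hδ₁ w]
      generalize δ₁ w = z
      induction z using TensorProduct.induction_on with
      | zero => simp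
      | add p q hp hq => simp only [map_add, Submodule.coe_add, hp, hq]
      | tmul p q => simp
    conv_rhs => rw [← hcu₁]
    generalize δ₁ w = z
    induction z using TensorProduct.induction_on with
    | zero => simp
    | add p q hp hq => simp only [map_add, TensorProduct.tmul_add, hp, hq]
    | tmul p q => simp [hμ, ← hε₁, algebraMap_smul, TensorProduct.smul_tmul']
  · refine hext (CoalgebraStruct.comul (R := R) (A := A) ∘ₗ j) (TensorProduct.map j LinearMap.id ∘ₗ δ) fun w => ?_
    simp only [LinearMap.comp_apply, hδ, hj]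
    rw [← hΔ₁, ← hδ₁ w]
    generalize δ₁ w = z
    induction z using TensorProduct.induction_on with
    | zero => simp
    | add p q hp hq => simp only [map_add, hp, hq]
    | tmul p q => simp [hμ, inc₂_tmul, hj]
  · refine eq_top_iff.2 fun a _ => ?_
    have hinc : ∀ b, inc e b ∈ Algebra.adjoin R (Set.range j) := by
      intro b
      have hb : b ∈ Algebra.adjoin R₁ (Set.range x) := hx ▸ Algebra.mem_top
      have hle : Algebra.adjoin R₁ (Set.range x) ≤
          ((Algebra.adjoin R (Set.range j)).restrictScalars R₁).comap (inc e) := by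
        rw [Algebra.adjoin_le_iff]
        rintro _ ⟨i, rfl⟩
        exact Algebra.subset_adjoin ⟨(1 : R) ⊗ₜ ⟨x i, hxW i⟩, hj _⟩
      exact hle hb
    obtain ⟨z, rfl⟩ := e.symm.surjective a
    induction z using TensorProduct.induction_on with
    | zero => simp
    | add p q hp hq => rw [map_add]; exact add_mem (hp trivial) (hq trivial)
    | tmul r b =>
      rw [← mul_one r, ← smul_eq_mul, ← TensorProduct.smul_tmul', map_smul]
      exact Subalgebra.smul_mem _ (hinc b) r

end Model

/-- A smooth bialgebra has a finitely generated comodule mapping onto generators. -/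
theorem nonempty_genComod_of_smooth (R : Type u) [CommRing R] (A : Type u) [CommRing A] [Bialgebra R A]
    [Algebra.Smooth R A] : Nonempty (GenComod R A) := by
  obtain ⟨R₀, B₀, _, _, hfg, hsm, ⟨e₀⟩⟩ := Algebra.Smooth.exists_subalgebra_fg ℤ R A
  obtain ⟨n, π, hπ⟩ := Algebra.FiniteType.iff_quotient_mvPolynomial''.1 (inferInstance : Algebra.FiniteType R₀ B₀)
  let y : Fin n → B₀ := fun i => π (MvPolynomial.X i)
  let z : Fin n → A := fun i => e₀.symm (1 ⊗ₜ y i)
  choose S hS using fun i => TensorProduct.exists_finset (CoalgebraStruct.comul (R := R) (z i))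
  choose P hP using fun a : A => TensorProduct.exists_finset (e₀ a)
  let K : Set R := (Set.range fun i => CoalgebraStruct.counit (R := R) (z i)) ∪
    ⋃ i, ⋃ p ∈ S i, ((P p.1).image Prod.fst : Finset R) ∪ ((P p.2).image Prod.fst : Finset R)
  have hK : K.Finite := (Set.finite_range _).union (Set.finite_iUnion fun i =>
    (S i).finite_toSet.biUnion fun p _ => (Finset.finite_toSet _).union (Finset.finite_toSet _))
  let R₁ : Subalgebra ℤ R := R₀ ⊔ Algebra.adjoin ℤ K
  have hR₁ : R₁.FG := hfg.sup ⟨hK.toFinset, by rw [Set.Finite.coe_toFinset]⟩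
  haveI : Algebra.FiniteType ℤ R₁ := ⟨R₁.fg_top.mpr hR₁⟩
  haveI : IsNoetherianRing R₁ := Algebra.FiniteType.isNoetherianRing ℤ R₁
  letI : Algebra R₀ R₁ := (Subalgebra.inclusion (le_sup_left : R₀ ≤ R₁)).toRingHom.toAlgebra
  haveI : IsScalarTower R₀ R₁ R := IsScalarTower.of_algebraMap_eq fun _ => rfl
  let B := R₁ ⊗[R₀] B₀
  let e : A ≃ₐ[R] R ⊗[R₁] B := e₀.trans (Algebra.TensorProduct.cancelBaseChange R₀ R₁ R R B₀).symm
  have hinj : Function.Injective (algebraMap R₁ R) := Subtype.val_injective
  have hrange : ∀ a : A, (∀ p ∈ P a, p.1 ∈ R₁) → a ∈ (inc (R₁ := R₁) e).range := by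
    intro a ha
    refine ⟨∑ p ∈ (P a).attach, (⟨p.1.1, ha p.1 p.2⟩ : R₁) ⊗ₜ[R₀] p.1.2, ?_⟩
    apply e.injective
    rw [AlgHom.toRingHom_eq_coe, RingHom.coe_coe, e_inc]
    have : e a = (Algebra.TensorProduct.cancelBaseChange R₀ R₁ R R B₀).symm (e₀ a) := rfl
    rw [this, hP a, map_sum, TensorProduct.tmul_sum]
    conv_rhs => rw [← Finset.sum_attach]
    refine Finset.sum_congr rfl fun p _ => ?_
    rw [Algebra.TensorProduct.cancelBaseChange_symm_tmul]
    rw [show ((⟨p.1.1, ha p.1 p.2⟩ : R₁) ⊗ₜ[R₀] p.1.2 : B) = (⟨p.1.1, ha p.1 p.2⟩ : R₁) • ((1 : R₁) ⊗ₜ[R₀] p.1.2) by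
      rw [TensorProduct.smul_tmul', smul_eq_mul, mul_one], ← TensorProduct.smul_tmul]
    congr 1
    rw [Algebra.smul_def, mul_one]
    rfl
  refine nonempty_genComod e hinj (fun i => (1 : R₁) ⊗ₜ[R₀] y i) ?_ ?_ ?_
  · rw [eq_top_iff]
    intro b hb
    clear hb
    induction b using TensorProduct.induction_on with
    | zero => exact Subalgebra.zero_mem _
    | add p q hp hq => exact Subalgebra.add_mem _ hp hq
    | tmul r c =>
      obtain ⟨f, rfl⟩ := hπ c
      rw [← mul_one r, ← smul_eq_mul, ← TensorProduct.smul_tmul']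
      refine Subalgebra.smul_mem _ ?_ r
      induction f using MvPolynomial.induction_on with
      | C a =>
        rw [← MvPolynomial.algebraMap_eq, AlgHom.commutes, Algebra.algebraMap_eq_smul_one, ← TensorProduct.smul_tmul,
          Algebra.smul_def, mul_one]
        exact Algebra.adjoin R₁ _ |>.algebraMap_mem (algebraMap R₀ R₁ a)
      | add p q hp hq => rw [map_add, TensorProduct.tmul_add]; exact Subalgebra.add_mem _ hp hq
      | mul_X p i hp =>
        rw [map_mul, show ((1 : R₁) ⊗ₜ[R₀] (π p * π (MvPolynomial.X i))) =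
          ((1 : R₁) ⊗ₜ[R₀] π p) * ((1 : R₁) ⊗ₜ[R₀] y i) by simp [y]]
        exact Subalgebra.mul_mem _ hp (Algebra.subset_adjoin ⟨i, rfl⟩)
  all_goals intro i
  all_goals
    have hz : inc (R₁ := R₁) e ((1 : R₁) ⊗ₜ[R₀] y i) = z i := by
      apply e.injective
      rw [e_inc]
      show _ = (Algebra.TensorProduct.cancelBaseChange R₀ R₁ R R B₀).symm (e₀ (e₀.symm (1 ⊗ₜ y i)))
      rw [AlgEquiv.apply_symm_apply, Algebra.TensorProduct.cancelBaseChange_symm_tmul]
    rw [hz]
  · rw [hS i]
    refine sum_mem fun p hp => ?_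
    obtain ⟨a, ha⟩ := hrange p.1 fun r hr => (le_sup_right : _ ≤ R₁) (Algebra.subset_adjoin (Or.inr
      (Set.mem_iUnion.2 ⟨i, Set.mem_biUnion hp (Or.inl (Finset.mem_coe.2 (Finset.mem_image_of_mem Prod.fst hr)))⟩)))
    obtain ⟨b, hb⟩ := hrange p.2 fun r hr => (le_sup_right : _ ≤ R₁) (Algebra.subset_adjoin (Or.inr
      (Set.mem_iUnion.2 ⟨i, Set.mem_biUnion hp (Or.inr (Finset.mem_coe.2 (Finset.mem_image_of_mem Prod.fst hr)))⟩)))
    refine ⟨a ⊗ₜ b, ?_⟩
    rw [AlgHom.toRingHom_eq_coe, RingHom.coe_coe, inc₂_tmul]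
    exact congrArg₂ (fun s t => s ⊗ₜ[R] t) ha hb
  · exact ⟨⟨_, (le_sup_right : _ ≤ R₁) (Algebra.subset_adjoin (Or.inl ⟨i, rfl⟩))⟩, rfl⟩

end Groth.Agent.HomRep
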