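import Groth.Agent.HomRepLib.Basic
import Groth.Agent.HopfLiftLib.Lift
import Mathlib.RingTheory.Bialgebra.MonoidAlgebra
import Mathlib.RingTheory.Bialgebra.TensorProduct
import Mathlib.RingTheory.HopfAlgebra.TensorProduct
import Mathlib.RingTheory.Smooth.Basic

/-!
Compatible maps lift along square-zero ideals.
-/

set_option autoImplicit false

noncomputable section

universe u

open scoped TensorProduct
open WithConv

namespace Groth.Agent.HomRep

attribute [local instance] Classical.propDecidable

variable {T : Type u} [CommRing T] {M : Type} [AddCommGroup M]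

/-- The weight zero coefficient is an integral. -/
theorem isIntegral_cf_zero : HopfLift.IsIntegral (R := T) (A := GA T M) T (cf (0 : M)) where
  one := by
    rw [MonoidAlgebra.one_def, show (1 : Multiplicative M) = Multiplicative.ofAdd 0 from rfl, cf_single, if_pos rfl]
  left a := by
    induction a using MonoidAlgebra.induction_linear with
    | zero => simp
    | add p q hp hq => simp only [map_add, TensorProduct.add_tmul, hp, hq]
    | single m t =>
      obtain ⟨m, rfl⟩ := Multiplicative.ofAdd.surjective m
      rw [MonoidAlgebra.comul_single]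
      simp only [CommSemiring.comul_apply, TensorProduct.map_tmul, LinearMap.rTensor_tmul, cf_single,
        MonoidAlgebra.lsingle_apply]
      split_ifs with h
      · subst h
        rw [show (Multiplicative.ofAdd (0 : M)) = 1 from rfl,
          show MonoidAlgebra.single (1 : Multiplicative M) t = t • (1 : GA T M) from by simp [MonoidAlgebra.one_def],
          TensorProduct.tmul_smul, TensorProduct.smul_tmul']
        simp
      · simp
  right a := by
    induction a using MonoidAlgebra.induction_linear with
    | zero => simp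
    | add p q hp hq => simp only [map_add, TensorProduct.add_tmul, hp, hq]
    | single m t =>
      obtain ⟨m, rfl⟩ := Multiplicative.ofAdd.surjective m
      rw [MonoidAlgebra.comul_single]
      simp only [CommSemiring.comul_apply, TensorProduct.map_tmul, TensorProduct.comm_tmul, LinearMap.rTensor_tmul,
        cf_single, MonoidAlgebra.lsingle_apply]
      split_ifs with h
      · subst h
        rw [show (Multiplicative.ofAdd (0 : M)) = 1 from rfl, ← MonoidAlgebra.one_def]
      · simp

variable {R : Type u} [CommRing R] [Algebra R T] {A : Type u} [CommRing A] [HopfAlgebra R A]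

/-- Restriction to the original group turns convolutions into convolutions. -/
theorem conv_restrict {X : Type u} [CommRing X] [Algebra T X] [Algebra R X] [IsScalarTower R T X]
    (f g : T ⊗[R] A →ₐ[T] X) :
    toConv ((f.restrictScalars R).comp Algebra.TensorProduct.includeRight) *
      toConv ((g.restrictScalars R).comp Algebra.TensorProduct.includeRight) =
      toConv (((toConv f * toConv g : WithConv (T ⊗[R] A →ₐ[T] X)).ofConv.restrictScalars R).comp
        Algebra.TensorProduct.includeRight) := by
  refine WithConv.ofConv_injective (AlgHom.ext fun a => ?_)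
  rw [AlgHom.convMul_apply, ofConv_toConv, AlgHom.comp_apply, AlgHom.restrictScalars_apply, AlgHom.convMul_apply,
    Algebra.TensorProduct.includeRight_apply, TensorProduct.comul_tmul, CommSemiring.comul_apply]
  generalize CoalgebraStruct.comul (R := R) a = z
  induction z using TensorProduct.induction_on with
  | zero => simp
  | add p q hp hq => simp only [TensorProduct.tmul_add, map_add, hp, hq]
  | tmul p q => simp

/-- A map into the group algebra as a map on the base change. -/
def ext1 {X : Type u} [CommRing X] [Algebra T X] [Algebra R X] [IsScalarTower R T X] (f : A →ₐ[R] X) :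
    T ⊗[R] A →ₐ[T] X :=
  Algebra.TensorProduct.lift (Algebra.ofId T X) f fun _ _ => Commute.all _ _

theorem ext1_comp {X : Type u} [CommRing X] [Algebra T X] [Algebra R X] [IsScalarTower R T X] (f : A →ₐ[R] X) :
    ((ext1 (T := T) f).restrictScalars R).comp Algebra.TensorProduct.includeRight = f :=
  AlgHom.ext fun a => by simp [ext1]

theorem ext1_apply {X : Type u} [CommRing X] [Algebra T X] [Algebra R X] [IsScalarTower R T X] (f : A →ₐ[R] X) (a : A) :
    ext1 (T := T) f (Algebra.TensorProduct.includeRight a) = f a := by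
  simp [ext1]

theorem hom_ext1 {X : Type u} [CommRing X] [Algebra T X] [Algebra R X] [IsScalarTower R T X]
    {f g : T ⊗[R] A →ₐ[T] X} (h : (f.restrictScalars R).comp Algebra.TensorProduct.includeRight =
      (g.restrictScalars R).comp Algebra.TensorProduct.includeRight) : f = g :=
  Algebra.TensorProduct.ext (Subsingleton.elim _ _) h

theorem conv_restrict_comp {X Y : Type u} [CommRing X] [Algebra T X] [Algebra R X] [IsScalarTower R T X]
    [CommRing Y] [Algebra T Y] [Algebra R Y] [IsScalarTower R T Y] (κ : X →ₐ[T] Y)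
    {f g h : T ⊗[R] A →ₐ[T] X} (hh : toConv f * toConv g = toConv h) :
    toConv ((κ.restrictScalars R).comp ((f.restrictScalars R).comp Algebra.TensorProduct.includeRight)) *
        toConv ((κ.restrictScalars R).comp ((g.restrictScalars R).comp Algebra.TensorProduct.includeRight)) =
      toConv ((κ.restrictScalars R).comp ((h.restrictScalars R).comp Algebra.TensorProduct.includeRight)) := by
  refine WithConv.ofConv_injective ?_
  have h1 := AlgHom.comp_convMul_distrib (κ.restrictScalars R)
    (toConv ((f.restrictScalars R).comp Algebra.TensorProduct.includeRight))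
    (toConv ((g.restrictScalars R).comp Algebra.TensorProduct.includeRight))
  rw [conv_restrict, hh] at h1
  exact h1.symm

/-- A compatible map at a level, after restriction and composition. -/
theorem compat_restrict {G : Type u} [CommRing G] [Bialgebra T G] [Algebra R G] [IsScalarTower R T G] {K : Ideal T}
    {f : T ⊗[R] A →ₐ[T] (T ⧸ K) ⊗[T] G} (hf : HopfLift.Compat G K f) {Y : Type u} [CommRing Y] [Algebra T Y]
    [Algebra R Y] [IsScalarTower R T Y] (κ : (T ⧸ K) ⊗[T] (G ⊗[T] G) →ₐ[T] Y) :
    toConv ((κ.restrictScalars R).comp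
        ((((HopfLift.lv K (Algebra.TensorProduct.includeLeft : G →ₐ[T] G ⊗[T] G)).comp f).restrictScalars R).comp
          Algebra.TensorProduct.includeRight)) *
      toConv ((κ.restrictScalars R).comp
        ((((HopfLift.lv K (Algebra.TensorProduct.includeRight : G →ₐ[T] G ⊗[T] G)).comp f).restrictScalars R).comp
          Algebra.TensorProduct.includeRight)) =
      toConv ((κ.restrictScalars R).comp
        ((((HopfLift.lv K (Bialgebra.comulAlgHom T G)).comp f).restrictScalars R).comp
          Algebra.TensorProduct.includeRight)) :=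
  conv_restrict_comp κ hf

/-- The product map on a tensor square. -/
def prod₂ : GA T M ⊗[T] GA T M →ₐ[T] GA T (M × M) :=
  Algebra.TensorProduct.lift (mapChr (AddMonoidHom.inl M M)) (mapChr (AddMonoidHom.inr M M)) fun _ _ => Commute.all _ _

theorem prod₂_tmul (x y : GA T M) :
    prod₂ (x ⊗ₜ[T] y) = mapChr (R := T) (AddMonoidHom.inl M M) x * mapChr (R := T) (AddMonoidHom.inr M M) y :=
  Algebra.TensorProduct.lift_tmul _ _ _ _ _

/-- The group algebra over a quotient as a tensor product. -/
def toTen (J : Ideal T) {N : Type} [AddCommGroup N] {X : Type u} [CommRing X] [Algebra T X]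
    (χ : Multiplicative N →* X) : GA (T ⧸ J) N →ₐ[T ⧸ J] (T ⧸ J) ⊗[T] X :=
  MonoidAlgebra.lift (T ⧸ J) _ (Multiplicative N)
    ((Algebra.TensorProduct.includeRight : X →ₐ[T] (T ⧸ J) ⊗[T] X).toMonoidHom.comp χ)

/-- Compatible maps lift along square-zero ideals. -/
theorem exists_cmp_lift [Algebra.FormallySmooth R A] (J : Ideal T) (hJ : J * J = ⊥) {φ₀ : A →ₐ[R] GA (T ⧸ J) M}
    (h₀ : Cmp φ₀) : ∃ φ : A →ₐ[R] GA T M, Cmp φ ∧ (cmap (Ideal.Quotient.mkₐ R J)).comp φ = φ₀ := by
  let X₂ := GA T M ⊗[T] GA T M
  let of₁ : Multiplicative M →* GA T M := MonoidAlgebra.of T (Multiplicative M)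
  let of₂ : Multiplicative (M × M) →* X₂ :=
    { toFun := fun p => of₁ (Multiplicative.ofAdd p.toAdd.1) ⊗ₜ of₁ (Multiplicative.ofAdd p.toAdd.2)
      map_one' := by
        rw [Algebra.TensorProduct.one_def, ← map_one of₁]
        rfl
      map_mul' := fun p q => by
        rw [Algebra.TensorProduct.tmul_mul_tmul, ← map_mul of₁, ← map_mul of₁]
        rfl }
  let l₁ : GA (T ⧸ J) M →ₐ[T] (T ⧸ J) ⊗[T] GA T M := (toTen J of₁).restrictScalars T
  let l₂ : GA (T ⧸ J) (M × M) →ₐ[T] (T ⧸ J) ⊗[T] X₂ := (toTen J of₂).restrictScalars T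
  let F₀ : T ⊗[R] A →ₐ[T] (T ⧸ J) ⊗[T] GA T M := l₁.comp (ext1 φ₀)
  have hl : ∀ (f : M →+ M × M) (g : GA T M →ₐ[T] X₂),
      (∀ m, g (of₁ (Multiplicative.ofAdd m)) = of₂ (Multiplicative.ofAdd (f m))) →
      ∀ x, HopfLift.lv J g (l₁ x) = l₂ (mapChr (R := T) f x) := by
    intro f g hg x
    induction x using MonoidAlgebra.induction_linear with
    | zero => simp
    | add p q hp hq => simp only [map_add, hp, hq]
    | single m t =>
      obtain ⟨m, rfl⟩ := Multiplicative.ofAdd.surjective m
      simp [mapChr_single, l₁, l₂, toTen, HopfLift.lv, hg, TensorProduct.smul_tmul']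
  have hF : ∀ (f : M →+ M × M) (g : GA T M →ₐ[T] X₂),
      (∀ m, g (of₁ (Multiplicative.ofAdd m)) = of₂ (Multiplicative.ofAdd (f m))) →
      (((HopfLift.lv J g).comp F₀).restrictScalars R).comp Algebra.TensorProduct.includeRight =
        (l₂.restrictScalars R).comp ((mapChr f).comp φ₀) := fun f g hg => AlgHom.ext fun a => by
    simp only [AlgHom.comp_apply, AlgHom.restrictScalars_apply, F₀]
    rw [ext1_apply]
    exact hl f g hg (φ₀ a)
  have hinl : ∀ m : M, (Algebra.TensorProduct.includeLeft : GA T M →ₐ[T] X₂) (of₁ (Multiplicative.ofAdd m)) =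
      of₂ (Multiplicative.ofAdd (AddMonoidHom.inl M M m)) := fun m => by
    simp [of₁, of₂, MonoidAlgebra.one_def]
  have hinr : ∀ m : M, (Algebra.TensorProduct.includeRight : GA T M →ₐ[T] X₂) (of₁ (Multiplicative.ofAdd m)) =
      of₂ (Multiplicative.ofAdd (AddMonoidHom.inr M M m)) := fun m => by
    simp [of₁, of₂, MonoidAlgebra.one_def]
  have hdg : ∀ m : M, Bialgebra.comulAlgHom T (GA T M) (of₁ (Multiplicative.ofAdd m)) =
      of₂ (Multiplicative.ofAdd ((AddMonoidHom.id M).prod (AddMonoidHom.id M) m)) := fun m => by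
    simp [of₁, of₂, MonoidAlgebra.comul_single]
  have hcompat : HopfLift.Compat (GA T M) J F₀ := by
    unfold HopfLift.Compat
    refine WithConv.ofConv_injective (hom_ext1 ?_)
    have h1 := congrArg WithConv.ofConv (conv_restrict (R := R) (A := A) (X := (T ⧸ J) ⊗[T] X₂)
      ((HopfLift.lv J (Algebra.TensorProduct.includeLeft : GA T M →ₐ[T] X₂)).comp F₀)
      ((HopfLift.lv J (Algebra.TensorProduct.includeRight : GA T M →ₐ[T] X₂)).comp F₀))
    simp only [ofConv_toConv] at h1 ⊢
    rw [← h1, hF _ _ hdg, hF _ _ hinl, hF _ _ hinr]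
    have h2 := congrArg (fun w : WithConv (A →ₐ[R] GA (T ⧸ J) (M × M)) => (l₂.restrictScalars R).comp w.ofConv) h₀.mul
    have h3 := AlgHom.comp_convMul_distrib (R := R) (A := GA (T ⧸ J) (M × M)) (B := (T ⧸ J) ⊗[T] X₂) (C := A)
      (l₂.restrictScalars R) (toConv ((mapChr (AddMonoidHom.inl M M)).comp φ₀))
      (toConv ((mapChr (AddMonoidHom.inr M M)).comp φ₀))
    simp only [ofConv_toConv] at h2 h3
    exact h3.symm.trans h2
  obtain ⟨f, hf, hfc⟩ := HopfLift.exists_step (isIntegral_cf_zero (T := T) (M := M)) (bot_le (a := J))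
    (le_of_eq hJ) F₀ hcompat
  -- back to the group algebra
  let q : (T ⧸ (⊥ : Ideal T)) →ₐ[T] T := (AlgEquiv.quotientBot T T).toAlgHom
  let κ₁ : (T ⧸ (⊥ : Ideal T)) ⊗[T] GA T M →ₐ[T] GA T M :=
    Algebra.TensorProduct.lift ((Algebra.ofId T (GA T M)).comp q) (AlgHom.id T _) fun _ _ => Commute.all _ _
  let π₂ : X₂ →ₐ[T] GA T (M × M) := prod₂
  let κ₂ : (T ⧸ (⊥ : Ideal T)) ⊗[T] X₂ →ₐ[T] GA T (M × M) :=
    Algebra.TensorProduct.lift ((Algebra.ofId T (GA T (M × M))).comp q) π₂ fun _ _ => Commute.all _ _
  let φ : A →ₐ[R] GA T M := ((κ₁.comp f).restrictScalars R).comp Algebra.TensorProduct.includeRight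
  have hκ : ∀ (e : M →+ M × M) (g : GA T M →ₐ[T] X₂), π₂.comp g = mapChr e →
      (κ₂.restrictScalars R).comp ((((HopfLift.lv ⊥ g).comp f).restrictScalars R).comp Algebra.TensorProduct.includeRight) =
        (mapChr e).comp φ := by
    intro e g hg
    refine AlgHom.ext fun a => ?_
    simp only [AlgHom.comp_apply, AlgHom.restrictScalars_apply, φ]
    generalize f (Algebra.TensorProduct.includeRight a) = z
    induction z using TensorProduct.induction_on with
    | zero => simp
    | add x y hx hy => simp only [map_add, hx, hy]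
    | tmul c x =>
      simp only [HopfLift.lv, Algebra.TensorProduct.map_tmul, AlgHom.id_apply, κ₂, κ₁,
        Algebra.TensorProduct.lift_tmul, AlgHom.comp_apply, Algebra.ofId_apply, map_mul]
      rw [← AlgHom.comp_apply π₂ g, hg]
      have e0 : mapChr (R := R) e (algebraMap T (GA T M) (q c)) = algebraMap T (GA T (M × M)) (q c) := by
        simp [MonoidAlgebra.coe_algebraMap, mapChr]
      rw [e0]
      rfl
  have hφmul : toConv ((mapChr (AddMonoidHom.inl M M)).comp φ) * toConv ((mapChr (AddMonoidHom.inr M M)).comp φ) =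
      toConv ((mapChr ((AddMonoidHom.id M).prod (AddMonoidHom.id M))).comp φ) := by
    have hl1 : π₂.comp (Algebra.TensorProduct.includeLeft : GA T M →ₐ[T] X₂) = mapChr (AddMonoidHom.inl M M) :=
      AlgHom.ext fun x => by
        show prod₂ (x ⊗ₜ[T] (1 : GA T M)) = _
        rw [prod₂_tmul]; simp
    have hl2 : π₂.comp (Algebra.TensorProduct.includeRight : GA T M →ₐ[T] X₂) = mapChr (AddMonoidHom.inr M M) :=
      AlgHom.ext fun x => by
        show prod₂ ((1 : GA T M) ⊗ₜ[T] x) = _
        rw [prod₂_tmul]; simp
    have hl3 : π₂.comp (Bialgebra.comulAlgHom T (GA T M)) = mapChr ((AddMonoidHom.id M).prod (AddMonoidHom.id M)) := by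
      refine MonoidAlgebra.algHom_ext (fun m => ?_) (Subsingleton.elim _ _)
      obtain ⟨m, rfl⟩ := Multiplicative.ofAdd.surjective m
      show π₂ (Bialgebra.comulAlgHom T (GA T M) (of₁ (Multiplicative.ofAdd m))) = _
      rw [hdg]
      show prod₂ (of₁ (Multiplicative.ofAdd m) ⊗ₜ[T] of₁ (Multiplicative.ofAdd m)) = _
      rw [prod₂_tmul]
      simp [of₁, mapChr_single, MonoidAlgebra.single_mul_single, ← ofAdd_add]
    rw [← hκ _ _ hl1, ← hκ _ _ hl2, ← hκ _ _ hl3]
    exact compat_restrict hfc κ₂
  have hred : (cmap (Ideal.Quotient.mkₐ R J)).comp φ = φ₀ := by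
    refine AlgHom.ext fun a => ?_
    have h1 : HopfLift.red (GA T M) (bot_le (a := J)) (f (Algebra.TensorProduct.includeRight a)) = l₁ (φ₀ a) := by
      rw [← AlgHom.comp_apply, hf]
      simp only [F₀, AlgHom.comp_apply, ext1_apply]
    let back : (T ⧸ J) ⊗[T] GA T M →ₐ[T] GA (T ⧸ J) M :=
      Algebra.TensorProduct.lift ((Algebra.ofId (T ⧸ J) (GA (T ⧸ J) M)).restrictScalars T)
        (cmap (Ideal.Quotient.mkₐ T J)) fun _ _ => Commute.all _ _
    have hb : ∀ x, back (l₁ x) = x := fun x => by
      induction x using MonoidAlgebra.induction_linear with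
      | zero => simp
      | add p q hp hq => simp only [map_add, hp, hq]
      | single m t =>
        simp [back, l₁, toTen, of₁, cmap, TensorProduct.smul_tmul', MonoidAlgebra.coe_algebraMap,
          MonoidAlgebra.single_mul_single]
    rw [← hb (φ₀ a), ← h1]
    simp only [AlgHom.comp_apply, AlgHom.restrictScalars_apply, φ]
    generalize f (Algebra.TensorProduct.includeRight a) = z
    induction z using TensorProduct.induction_on with
    | zero => simp
    | add x y hx hy => simp only [map_add, hx, hy]
    | tmul c x =>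
      obtain ⟨c, rfl⟩ := Ideal.Quotient.mk_surjective c
      simp [κ₁, back, HopfLift.red, q, cmap, MonoidAlgebra.coe_algebraMap]
      rfl
  refine ⟨φ, ⟨hφmul, ?_⟩, hred⟩
  let e : WithConv (A →ₐ[R] T) := toConv ((aug (R := R)).comp φ)
  have he : e * e = e := by
    have h := congrArg (fun w => toConv ((aug (R := R) (T := T) (M := M × M)).comp w.ofConv)) hφmul
    rw [AlgHom.comp_convMul_distrib] at h
    simp only [ofConv_toConv, ← AlgHom.comp_assoc] at h
    have ha : ∀ f : M →+ M × M, (aug (R := R) (T := T) (M := M × M)).comp (mapChr f) = aug := fun f => AlgHom.ext fun x => by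
      induction x using MonoidAlgebra.induction_linear with
      | zero => simp
      | add p q hp hq => simp only [map_add, hp, hq]
      | single m t => simp [aug, mapChr]
    simpa only [ha] using h
  have he1 : e = 1 := by
    let i : WithConv (A →ₐ[R] T) := toConv (((aug (R := R)).comp φ).comp (HopfAlgebra.antipodeAlgHom R A))
    have hi : i * e = 1 := by
      refine WithConv.ofConv_injective (AlgHom.ext fun a => ?_)
      rw [AlgHom.convMul_apply, AlgHom.convOne_apply, ← AlgHom.commutes ((aug (R := R)).comp φ),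
        ← HopfAlgebra.mul_antipode_rTensor_comul_apply]
      generalize CoalgebraStruct.comul (R := R) a = z
      induction z using TensorProduct.induction_on with
      | zero => simp
      | add p q hp hq => simp only [map_add, hp, hq]
      | tmul p q => simp [i, e]
    rw [← one_mul e, ← hi, mul_assoc, he]
  exact congrArg WithConv.ofConv he1

end Groth.Agent.HomRep
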