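import Groth.Agent.RepDescLib.Basic

/-!
Representability of a sheaf is checked on affine schemes.
-/

set_option autoImplicit false

noncomputable section

universe u

open CategoryTheory CategoryTheory.Limits AlgebraicGeometry

namespace Groth.Agent.HomRep

variable {S : Scheme.{u}} {F : RepDescLib.Sec S}

theorem exists_unique_rep_of_affine (hF : RepDescLib.IsSheaf F) {A : Over S} (u : F.obj A)
    (h : ∀ T : Over S, IsAffine T.left → ∀ s : F.obj T, ∃! a : T ⟶ A, F.res a u = s) (T : Over S) (s : F.obj T) :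
    ∃! a : T ⟶ A, F.res a u = s := by
  -- morphisms are determined by the sections they induce
  have hext : ∀ (T : Over S) (a b : T ⟶ A), F.res a u = F.res b u → a = b := by
    intro T a b e
    let 𝒰 := T.left.affineCover
    refine Over.OverMorphism.ext (𝒰.hom_ext _ _ fun i => ?_)
    let j : Over.mk (𝒰.f i ≫ T.hom) ⟶ T := Over.homMk (𝒰.f i) rfl
    have := (h (Over.mk (𝒰.f i ≫ T.hom)) (inferInstanceAs (IsAffine (𝒰.X i))) (F.res j (F.res a u))).unique
      (y₁ := j ≫ a) (y₂ := j ≫ b) (F.res_comp _ _ _) (by rw [F.res_comp, e])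
    exact congrArg Over.Hom.left this
  let 𝒰 := T.left.affineCover
  let U : 𝒰.I₀ → Over S := fun i => Over.mk (𝒰.f i ≫ T.hom)
  let j : ∀ i, U i ⟶ T := fun i => Over.homMk (𝒰.f i) rfl
  choose a ha hu using fun i => h (U i) (inferInstanceAs (IsAffine (𝒰.X i))) (F.res (j i) s)
  have agree : ∀ i i', pullback.fst (𝒰.f i) (𝒰.f i') ≫ (a i).left = pullback.snd (𝒰.f i) (𝒰.f i') ≫ (a i').left := by
    intro i i'
    let W : Over S := Over.mk (pullback.fst (𝒰.f i) (𝒰.f i') ≫ (U i).hom)
    let p : W ⟶ U i := Over.homMk (pullback.fst (𝒰.f i) (𝒰.f i')) rfl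
    let q : W ⟶ U i' := Over.homMk (pullback.snd (𝒰.f i) (𝒰.f i')) (pullback.condition_assoc T.hom).symm
    have hpq : p ≫ j i = q ≫ j i' := Over.OverMorphism.ext pullback.condition
    exact congrArg Over.Hom.left (hext W (p ≫ a i) (q ≫ a i') (by
      rw [F.res_comp, F.res_comp, ha, ha, ← F.res_comp, ← F.res_comp, hpq]))
  let a₀ : T.left ⟶ A.left := 𝒰.glueMorphisms (fun i => (a i).left) agree
  have ha₀ : ∀ i, 𝒰.f i ≫ a₀ = (a i).left := fun i => 𝒰.ι_glueMorphisms _ agree i
  let aT : T ⟶ A := Over.homMk a₀ (𝒰.hom_ext _ _ fun i => by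
    rw [← Category.assoc, ha₀]
    exact Over.w (a i))
  have hja : ∀ i, j i ≫ aT = a i := fun i => Over.OverMorphism.ext (ha₀ i)
  have hs : F.res aT u = s := by
    refine (hF.glue U j (fun i => inferInstanceAs (IsOpenImmersion (𝒰.f i))) (fun t => 𝒰.exists_eq t |>.imp fun i hi => hi)
      (fun i => F.res (j i) s) fun i i' T'' x y e => by rw [← F.res_comp, ← F.res_comp, e]).unique (fun i => ?_) fun i => rfl
    rw [← F.res_comp, hja, ha]
  exact ⟨aT, hs, fun b hb => hext T b aT (hb.trans hs.symm)⟩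

end Groth.Agent.HomRep
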