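import Groth.Agent.HomRepLib.Opens
import Groth.Agent.HomRepLib.Lift
import Groth.Agent.HomRepLib.RepAffine
import Groth.Agent.HomRepLib.Comod
import Groth.Agent.RichLib.IndQuasiAffine
import Mathlib.AlgebraicGeometry.Gluing
import Mathlib.AlgebraicGeometry.PullbackCarrier
import Mathlib.AlgebraicGeometry.Morphisms.Smooth
import Mathlib.RingTheory.RingHom.Smooth

/-!
The scheme of homomorphisms out of a diagonalisable group, over an affine base.
-/

set_option autoImplicit false

noncomputable section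

universe u

open CategoryTheory CategoryTheory.Limits MonoidalCategory CartesianMonoidalCategory AlgebraicGeometry CoactBr
open scoped TensorProduct

namespace Groth.Agent.HomRep

attribute [local instance] CoactBr.braidedAlgSpecOf
attribute [local instance] Classical.propDecidable

variable {R : Type u} [CommRing R] {A : Type u} [CommRing A] [HopfAlgebra R A] {M : Type} [AddCommGroup M]

namespace Data

variable (d : Data R A)

/-- The diagram of pieces. -/
def dgr : Finset M ⥤ Scheme.{u} where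
  obj F := (d.bset F F).toScheme
  map f := d.inc₀ (leOfHom f)
  map_id F := congrArg Over.Hom.left (d.inc_self F)
  map_comp f g := (congrArg Over.Hom.left (d.inc_comp (leOfHom f) (leOfHom g))).symm

instance {F F' : Finset M} (f : F ⟶ F') : IsOpenImmersion ((d.dgr (M := M)).map f) := (d.range_inc (leOfHom f)).1

instance : ((d.dgr (M := M)) ⋙ Scheme.forget).IsLocallyDirected where
  cond := by
    intro F G K fi fj x y e
    have hF : F ⊆ K := leOfHom fi
    have hG : G ⊆ K := leOfHom fj
    let z : (d.bset K K).toScheme := d.inc₀ hF x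
    have e' : d.inc₀ hG y = z := e.symm
    have h1 : (d.bset K K).ι z ∈ d.bset K F :=
      (Set.ext_iff.1 (d.range_inc hF).2 z).1 ⟨x, rfl⟩
    have h2 : (d.bset K K).ι z ∈ d.bset K G :=
      (Set.ext_iff.1 (d.range_inc hG).2 z).1 ⟨y, e'⟩
    have h3 : (d.bset K K).ι z ∈ d.bset K (F ∩ G) := fun m hm => by
      rw [Finset.mem_inter, not_and_or] at hm
      exact hm.elim (h1 m) (h2 m)
    have hi : F ∩ G ⊆ F := Finset.inter_subset_left
    have hj : F ∩ G ⊆ G := Finset.inter_subset_right
    obtain ⟨w, hw⟩ := (Set.ext_iff.1 (d.range_inc (hi.trans hF)).2 z).2 h3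
    haveI := (d.range_inc hF).1
    haveI := (d.range_inc hG).1
    have key : ∀ {F' : Finset M} (a : F ∩ G ⊆ F') (b : F' ⊆ K),
        d.inc₀ b (d.inc₀ a w) = d.inc₀ (a.trans b) w := fun a b => by
      rw [← Scheme.Hom.comp_apply]
      exact congrArg (fun g => g w) (congrArg Over.Hom.left (d.inc_comp a b))
    refine ⟨F ∩ G, homOfLE hi, homOfLE hj, w, ?_, ?_⟩
    · exact (d.inc₀ hF).isOpenEmbedding.injective ((key hi hF).trans hw)
    · exact (d.inc₀ hG).isOpenEmbedding.injective ((key hj hG).trans (hw.trans e'.symm))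

/-- The cocone to the base. -/
def toBaseCocone : Cocone (d.dgr (M := M)) where
  pt := Spec (CommRingCat.of R)
  ι :=
    { app := fun F => (d.sU F).hom
      naturality := fun _ _ f => (Over.w (d.inc (leOfHom f))).trans (Category.comp_id _).symm }

/-- The scheme of homomorphisms. -/
def X : Over (Spec (CommRingCat.of R)) := Over.mk (colimit.desc (d.dgr (M := M)) d.toBaseCocone)

/-- The pieces in it. -/
def ib (F : Finset M) : d.sU F ⟶ d.X (M := M) := Over.homMk (colimit.ι d.dgr F) (colimit.ι_desc _ _)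

instance (F : Finset M) : IsOpenImmersion (d.ib F).left := inferInstanceAs (IsOpenImmersion (colimit.ι d.dgr F))

instance (F : Finset M) : Mono (d.ib F) := Over.mono_of_mono_left _

theorem inc_ib {F F' : Finset M} (h : F ⊆ F') : d.inc h ≫ d.ib F' = d.ib F :=
  Over.OverMorphism.ext (colimit.w (d.dgr (M := M)) (homOfLE h))

theorem ib_covers (x : (d.X (M := M)).left) : ∃ F, x ∈ Set.range (d.ib F).left := by
  obtain ⟨F, y, hy⟩ := Scheme.IsLocallyDirected.ι_jointly_surjective (d.dgr (M := M)) x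
  exact ⟨F, y, hy⟩

theorem range_ib_mono {F F' : Finset M} (h : F ⊆ F') : Set.range (d.ib F).left ⊆ Set.range (d.ib F').left := by
  rw [← d.inc_ib h, Over.comp_left]
  rintro _ ⟨x, rfl⟩
  exact ⟨(d.inc h).left x, rfl⟩

theorem exists_index {s : Set (d.X (M := M)).left} (hs : IsCompact s) :
    ∃ F, s ⊆ Set.range (d.ib F).left := by
  obtain ⟨t, ht⟩ := hs.elim_finite_subcover (fun F : Finset M => Set.range (d.ib F).left)
    (fun F => (d.ib F).left.isOpenEmbedding.isOpen_range) (fun x _ => Set.mem_iUnion.2 (d.ib_covers x))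
  refine ⟨t.sup id, fun x hx => ?_⟩
  obtain ⟨F, hF, hxF⟩ := Set.mem_iUnion₂.1 (ht hx)
  exact d.range_ib_mono (Finset.le_sup (f := id) hF) hxF

/-- Sections on the scheme. -/
abbrev Sc (R : Type u) [CommRing R] (A : Type u) [CommRing A] [HopfAlgebra R A] (M : Type) [AddCommGroup M] :
    RepDescLib.Sec (Spec (CommRingCat.of R)) := RepDescLib.homSec (sp R (GA R M)) (sp R A)

theorem exists_univ_sec : ∃ u : (Sc R A M).obj (d.X (M := M)), ∀ F, (Sc R A M).res (d.ib F) u = d.usec F := by
  obtain ⟨u, hu, -⟩ := (RepDescLib.isSheaf_homSec (sp R (GA R M)) (sp R A)).glue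
    (fun F : ULift.{u} (Finset M) => d.sU F.down) (fun F => d.ib F.down) (fun F => inferInstance)
    (fun x => (d.ib_covers x).elim fun F hF => ⟨⟨F⟩, hF⟩) (fun F => d.usec F.down) fun F G T'' a b e => by
      have hF : F.down ⊆ F.down ∪ G.down := Finset.subset_union_left
      have hG : G.down ⊆ F.down ∪ G.down := Finset.subset_union_right
      have : a ≫ d.inc hF = b ≫ d.inc hG := by
        rw [← cancel_mono (d.ib (F.down ∪ G.down)), Category.assoc, Category.assoc, d.inc_ib, d.inc_ib]
        exact e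
      rw [← d.res_inc hF, ← d.res_inc hG, ← (Sc R A M).res_comp, ← (Sc R A M).res_comp, this]
  exact ⟨u, fun F => hu ⟨F⟩⟩

theorem rep_sp {u : (Sc R A M).obj (d.X (M := M))} (hu : ∀ F, (Sc R A M).res (d.ib F) u = d.usec F)
    (T : Type u) [CommRing T] [Algebra R T] (s : (Sc R A M).obj (sp R T)) :
    ∃! a : sp R T ⟶ d.X, (Sc R A M).res a u = s := by
  obtain ⟨φ, hφ, rfl⟩ := exists_toSec s
  obtain ⟨F, hF⟩ := exists_bdd d.D φ
  obtain ⟨g, hg⟩ := exists_univ d.gen F d.hgen hφ (d.genSupp_of_bdd hF)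
  obtain ⟨a, ha⟩ := d.exists_lift_sU g (hg.symm ▸ hF)
  refine ⟨a ≫ d.ib F, ?_, fun b hb => ?_⟩
  · show (Sc R A M).res (a ≫ d.ib F) u = _
    rw [(Sc R A M).res_comp, hu, usec, ← (Sc R A M).res_comp, ha, res_toSec]
    congr 1
  haveI : CompactSpace (sp R T).left := inferInstanceAs (CompactSpace (PrimeSpectrum T))
  obtain ⟨H₀, hH₀⟩ := d.exists_index (isCompact_range b.left.continuous)
  let H := F ∪ H₀
  have hFH : F ⊆ H := Finset.subset_union_left
  let b₀ := IsOpenImmersion.lift (d.ib H).left b.left (hH₀.trans (d.range_ib_mono Finset.subset_union_right))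
  have hb₀ : b₀ ≫ (d.ib H).left = b.left := IsOpenImmersion.lift_fac _ _ _
  let b' : sp R T ⟶ d.sU H := Over.homMk b₀ (by rw [← Over.w (d.ib H), ← Category.assoc, hb₀]; exact Over.w b)
  have hb' : b' ≫ d.ib H = b := Over.OverMorphism.ext hb₀
  let a' : sp R T ⟶ d.sU H := a ≫ d.inc hFH
  have ha' : a' ≫ d.ib H = a ≫ d.ib F := by rw [Category.assoc, d.inc_ib]
  obtain ⟨g₁, hg₁⟩ := DiagRep.exists_pt (b' ≫ d.ιU H)
  obtain ⟨g₂, hg₂⟩ := DiagRep.exists_pt (a' ≫ d.ιU H)
  have e₁ : (Sc R A M).res b' (d.usec H) = toSec φ hφ := by rw [← hu, ← (Sc R A M).res_comp, hb']; exact hb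
  have e₂ : (Sc R A M).res a' (d.usec H) = toSec φ hφ := by
    rw [(Sc R A M).res_comp, d.res_inc, usec, ← (Sc R A M).res_comp, ha, res_toSec]
    congr 1
  rw [usec, ← (Sc R A M).res_comp, hg₁, res_toSec] at e₁
  rw [usec, ← (Sc R A M).res_comp, hg₂, res_toSec] at e₂
  have : g₁ = g₂ := univ_injective d.gen H d.hgen ((toSec_injective e₁).trans (toSec_injective e₂).symm)
  rw [← hb', ← ha', (cancel_mono (d.ιU H)).1 (hg₁.trans ((congrArg pt this).trans hg₂.symm))]

theorem rep_all {u : (Sc R A M).obj (d.X (M := M))} (hu : ∀ F, (Sc R A M).res (d.ib F) u = d.usec F)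
    (T : Over (Spec (CommRingCat.of R))) (s : (Sc R A M).obj T) : ∃! a : T ⟶ d.X, (Sc R A M).res a u = s := by
  refine exists_unique_rep_of_affine (RepDescLib.isSheaf_homSec _ _) u (fun T hT s => ?_) T s
  obtain ⟨φ, hφ⟩ := Spec.map_surjective (T.left.isoSpec.inv ≫ T.hom)
  let B : Type u := Γ(T.left, ⊤)
  letI : Algebra R B := φ.hom.toAlgebra
  have hw : T.left.isoSpec.inv ≫ T.hom = (sp R B).hom := by
    show _ = Spec.map (CommRingCat.ofHom φ.hom)
    rw [CommRingCat.ofHom_hom, hφ]
  let e : sp R B ≅ T := Over.isoMk T.left.isoSpec.symm hw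
  obtain ⟨a, ha, hau⟩ := d.rep_sp hu B ((Sc R A M).res e.hom s)
  refine ⟨e.inv ≫ a, ?_, fun b hb => ?_⟩
  · show (Sc R A M).res (e.inv ≫ a) u = s
    rw [(Sc R A M).res_comp, ha, ← (Sc R A M).res_comp, e.inv_hom_id, (Sc R A M).res_id]
  · rw [← hau (e.hom ≫ b) (by show (Sc R A M).res (e.hom ≫ b) u = _; rw [(Sc R A M).res_comp, hb]),
      e.inv_hom_id_assoc]

theorem isSeparated_X : IsSeparated (d.X (M := M)).hom := by
  constructor
  let f := (d.X (M := M)).hom
  let m : ∀ F : Finset M, pullback (d.sU F).hom (d.sU F).hom ⟶ pullback f f := fun F =>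
    pullback.map _ _ _ _ (d.ib F).left (d.ib F).left (𝟙 _) ((Category.comp_id _).trans (Over.w (d.ib F)).symm)
      ((Category.comp_id _).trans (Over.w (d.ib F)).symm)
  have hcov : ∀ z : ↥(pullback f f), ∃ F, z ∈ Set.range (m F) := fun z => by
    obtain ⟨F, hF⟩ := d.ib_covers (pullback.fst f f z)
    obtain ⟨G, hG⟩ := d.ib_covers (pullback.snd f f z)
    refine ⟨F ∪ G, ?_⟩
    rw [Scheme.Pullback.range_map]
    exact ⟨d.range_ib_mono Finset.subset_union_left hF, d.range_ib_mono Finset.subset_union_right hG⟩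
  let 𝒰 : (pullback f f).OpenCover := Scheme.Cover.mkOfCovers (P := @IsOpenImmersion) (ULift.{u} (Finset M))
    (fun F => pullback (d.sU F.down).hom (d.sU F.down).hom) (fun F => m F.down)
    (fun z => (hcov z).elim fun F hF => ⟨⟨F⟩, hF⟩) (fun F => inferInstance)
  refine IsZariskiLocalAtTarget.of_openCover (P := @IsClosedImmersion) 𝒰 fun F => ?_
  let G := F.down
  have hm1 : m G ≫ pullback.fst f f = pullback.fst (d.sU G).hom (d.sU G).hom ≫ (d.ib G).left := pullback.lift_fst _ _ _
  have hm2 : m G ≫ pullback.snd f f = pullback.snd (d.sU G).hom (d.sU G).hom ≫ (d.ib G).left := pullback.lift_snd _ _ _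
  have sq : IsPullback (d.ib G).left (pullback.diagonal (d.sU G).hom) (pullback.diagonal f) (m G) := by
    refine IsPullback.of_isLimit (c := PullbackCone.mk (d.ib G).left (pullback.diagonal (d.sU G).hom) ?_)
      (PullbackCone.IsLimit.mk _ (fun c => c.snd ≫ pullback.fst _ _) (fun c => ?_) (fun c => ?_) fun c l _ hl => ?_)
    · apply pullback.hom_ext
      · rw [Category.assoc, pullback.diagonal_fst, Category.comp_id, Category.assoc, hm1, ← Category.assoc,
          pullback.diagonal_fst, Category.id_comp]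
      · rw [Category.assoc, pullback.diagonal_snd, Category.comp_id, Category.assoc, hm2, ← Category.assoc,
          pullback.diagonal_snd, Category.id_comp]
    · have h := congrArg (· ≫ pullback.fst f f) c.condition
      simp only [Category.assoc, pullback.diagonal_fst, Category.comp_id, hm1] at h
      exact (Category.assoc _ _ _).trans h.symm
    · have h1 := congrArg (· ≫ pullback.fst f f) c.condition
      have h2 := congrArg (· ≫ pullback.snd f f) c.condition
      simp only [Category.assoc, pullback.diagonal_fst, pullback.diagonal_snd, Category.comp_id, hm1, hm2] at h1 h2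
      apply pullback.hom_ext
      · rw [Category.assoc, pullback.diagonal_fst, Category.comp_id]
      · rw [Category.assoc, pullback.diagonal_snd, Category.comp_id, ← cancel_mono (d.ib G).left, Category.assoc,
          Category.assoc]
        exact h1.symm.trans h2
    · rw [← hl]
      simp
  show IsClosedImmersion (pullback.snd (pullback.diagonal f) (m G))
  rw [← MorphismProperty.cancel_left_of_respectsIso (P := @IsClosedImmersion) sq.isoPullback.hom, sq.isoPullback_hom_snd]
  haveI : IsSeparated (d.sU G).hom := inferInstanceAs (IsSeparated ((d.bset G G).ι ≫ DiagRep.baseHom R (d.Rp G)))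
  infer_instance

theorem isIndQuasiAffine_X : MoreMor.IsIndQuasiAffineHom (d.X (M := M)).hom := by
  refine (RichLib.QA.indQA_iff _).mpr fun V _ U _ hU => ?_
  obtain ⟨F, hF⟩ := d.exists_index hU
  let U' : (d.sU F).left.Opens := (d.ib F).left ⁻¹ᵁ U
  have hU' : IsCompact (U' : Set (d.sU F).left) :=
    (d.ib F).left.isOpenEmbedding.isInducing.isCompact_preimage' hU hF
  haveI : CompactSpace U'.toScheme := isCompact_iff_compactSpace.mp hU'
  haveI : U'.toScheme.IsQuasiAffine :=
    Scheme.IsQuasiAffine.of_isImmersion (U'.ι ≫ (d.bset F F).ι)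
  have himg : (d.ib F).left ''ᵁ U' = U := by
    rw [Scheme.Hom.image_preimage_eq_opensRange_inf, inf_eq_right]
    exact hF
  rw [← himg]
  exact RichLib.QA.isQuasiAffine_of_iso ((d.ib F).left.isoImage U').inv

theorem smooth_away [Algebra.Smooth R A] {F : Finset M} (f : d.Rp F)
    (hf : (PrimeSpectrum.basicOpen f : Set (PrimeSpectrum (d.Rp F))) ⊆ bddSet d.D (d.uφ F) F) :
    Algebra.Smooth R (Localization.Away f) := by
  haveI : Algebra.FinitePresentation R (d.Rp F) := finitePresentation_rep d.gen F d.hfg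
  haveI : Algebra.FinitePresentation (d.Rp F) (Localization.Away f) := IsLocalization.Away.finitePresentation f
  haveI : Algebra.FinitePresentation R (Localization.Away f) :=
    Algebra.FinitePresentation.trans R (d.Rp F) (Localization.Away f)
  refine ⟨Algebra.FormallySmooth.of_comp_surjective fun B _ _ I hI g₀ => ?_, inferInstance⟩
  let L : d.Rp F →ₐ[R] Localization.Away f := IsScalarTower.toAlgHom R (d.Rp F) (Localization.Away f)
  let φ₀ : A →ₐ[R] GA (B ⧸ I) M := (cmap (g₀.comp L)).comp (d.uφ F)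
  have hb₀ : Bdd d.D φ₀ F := (bdd_cmap_iff d.D (cmp_univ d.gen F d.hgen) _ F).2 fun q =>
    hf ((Set.ext_iff.1 (PrimeSpectrum.localization_away_comap_range (Localization.Away f) f) _).1
      ⟨PrimeSpectrum.comap g₀.toRingHom q, rfl⟩)
  obtain ⟨φ, hφ, hφ₀⟩ := exists_cmp_lift I (by rw [← pow_two]; exact hI) (φ₀ := φ₀)
    ((cmp_univ d.gen F d.hgen).map _)
  have hnil : ∀ q : PrimeSpectrum B, I ≤ q.asIdeal := fun q x hx =>
    q.isPrime.mem_of_pow_mem 2 (by
      have : x ^ 2 ∈ I ^ 2 := Ideal.pow_mem_pow hx 2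
      rw [hI] at this
      rw [(Submodule.mem_bot B).1 this]
      exact q.asIdeal.zero_mem)
  have hb : Bdd d.D φ F := by
    rw [← AlgHom.id_comp φ, ← cmap_id, bdd_cmap_iff d.D hφ]
    intro q
    have hb₀' := (bdd_cmap_iff d.D hφ (Ideal.Quotient.mkₐ R I) F).1 (hφ₀ ▸ hb₀)
    obtain ⟨p, hp⟩ : q ∈ Set.range (PrimeSpectrum.comap (Ideal.Quotient.mk I)) := by
      rw [range_comap_of_surjective _ _ Ideal.Quotient.mk_surjective, Ideal.mk_ker, PrimeSpectrum.mem_zeroLocus]
      exact hnil q
    have := hb₀' p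
    rwa [show PrimeSpectrum.comap (Ideal.Quotient.mkₐ R I).toRingHom p = q from hp] at this
  obtain ⟨g, hg⟩ := exists_univ d.gen F d.hgen hφ (d.genSupp_of_bdd hb)
  have hgr : (Ideal.Quotient.mkₐ R I).comp g = g₀.comp L := univ_injective d.gen F d.hgen (by
    rw [← cmap_comp, AlgHom.comp_assoc, hg, hφ₀])
  have hunit : IsUnit (g f) := by
    by_contra h
    obtain ⟨𝔪, h𝔪, hmem⟩ := Ideal.exists_le_maximal _ (mt Ideal.span_singleton_eq_top.1 h)
    have h1 : IsUnit (Ideal.Quotient.mk I (g f)) := by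
      rw [show Ideal.Quotient.mk I (g f) = g₀ (L f) from AlgHom.congr_fun hgr f]
      exact (IsLocalization.Away.algebraMap_isUnit f).map g₀
    obtain ⟨y, hy⟩ := Ideal.Quotient.mk_surjective (↑h1.unit⁻¹ : B ⧸ I)
    have h2 : g f * y - 1 ∈ I := by
      rw [← Ideal.Quotient.eq, map_mul, hy, map_one]
      exact h1.mul_val_inv
    have h3 : g f ∈ 𝔪 := hmem (Ideal.mem_span_singleton_self _)
    have h4 : g f * y - 1 ∈ 𝔪 := hnil ⟨𝔪, h𝔪.isPrime⟩ h2
    exact h𝔪.ne_top ((Ideal.eq_top_iff_one _).2 (by simpa using 𝔪.sub_mem (𝔪.mul_mem_right y h3) h4))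
  let g' : Localization.Away f →ₐ[R] B :=
    { IsLocalization.Away.lift f (g := g.toRingHom) hunit with
      commutes' := fun r => by
        rw [IsScalarTower.algebraMap_apply R (d.Rp F) (Localization.Away f)]
        exact (IsLocalization.Away.lift_eq f hunit _).trans (g.commutes r) }
  refine ⟨g', ?_⟩
  refine AlgHom.coe_ringHom_injective (IsLocalization.ringHom_ext (Submonoid.powers f) (RingHom.ext fun x => ?_))
  show Ideal.Quotient.mk I (IsLocalization.Away.lift f hunit (algebraMap _ _ x)) = g₀ (L x)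
  rw [IsLocalization.Away.lift_eq]
  exact AlgHom.congr_fun hgr x

theorem smooth_X [Algebra.Smooth R A] : Smooth (d.X (M := M)).hom := by
  refine IsZariskiLocalAtSource.of_openCover (P := @Smooth)
    (Scheme.IsLocallyDirected.openCover (d.dgr (M := M))) fun F => ?_
  show Smooth (colimit.ι d.dgr F ≫ colimit.desc d.dgr d.toBaseCocone)
  rw [colimit.ι_desc]
  show Smooth ((d.bset F F).ι ≫ DiagRep.baseHom R (d.Rp F))
  have hy : ∀ y : (d.bset F F).toScheme, ∃ f : d.Rp F, (d.bset F F).ι y ∈ PrimeSpectrum.basicOpen f ∧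
      (PrimeSpectrum.basicOpen f : Set (PrimeSpectrum (d.Rp F))) ⊆ bddSet d.D (d.uφ F) F := fun y => by
    obtain ⟨_, ⟨f, rfl⟩, hyf, hf⟩ := PrimeSpectrum.isTopologicalBasis_basic_opens.exists_subset_of_mem_open
      (show y.1 ∈ (d.bset F F : Set _) from y.2) (d.bset F F).2
    exact ⟨f, hyf, hf⟩
  choose f hyf hf using hy
  let jj : ∀ y, Spec (CommRingCat.of (Localization.Away (f y))) ⟶ Spec (CommRingCat.of (d.Rp F)) := fun y =>
    Spec.map (CommRingCat.ofHom (algebraMap (d.Rp F) (Localization.Away (f y))))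
  haveI hjj : ∀ y, IsOpenImmersion (jj y) := fun y => IsOpenImmersion.of_isLocalization (R := d.Rp F) (f y)
  have hr : ∀ y, Set.range (jj y) ⊆ Set.range (d.bset F F).ι := fun y => by
    rw [Scheme.Opens.range_ι]
    rintro _ ⟨q, rfl⟩
    exact hf y ((Set.ext_iff.1 (PrimeSpectrum.localization_away_comap_range (Localization.Away (f y)) (f y)) _).1 ⟨q, rfl⟩)
  let kk : ∀ y, Spec (CommRingCat.of (Localization.Away (f y))) ⟶ (d.bset F F).toScheme := fun y =>
    IsOpenImmersion.lift (d.bset F F).ι (jj y) (hr y)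
  have hkk : ∀ y, kk y ≫ (d.bset F F).ι = jj y := fun y => IsOpenImmersion.lift_fac _ _ _
  have hoi : ∀ y, IsOpenImmersion (kk y) := fun y =>
    haveI : IsOpenImmersion (kk y ≫ (d.bset F F).ι) := hkk y ▸ hjj y
    IsOpenImmersion.of_comp _ (d.bset F F).ι
  let 𝒱 : (d.bset F F).toScheme.OpenCover := Scheme.Cover.mkOfCovers (P := @IsOpenImmersion) _ _ kk (fun y => by
    obtain ⟨q, hq⟩ := (Set.ext_iff.1 (PrimeSpectrum.localization_away_comap_range (Localization.Away (f y)) (f y)) _).2 (hyf y)
    refine ⟨y, q, (d.bset F F).ι.isOpenEmbedding.injective ?_⟩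
    rw [← Scheme.Hom.comp_apply, hkk]
    exact hq) hoi
  refine IsZariskiLocalAtSource.of_openCover (P := @Smooth) 𝒱 fun y => ?_
  show Smooth (kk y ≫ (d.bset F F).ι ≫ DiagRep.baseHom R (d.Rp F))
  rw [← Category.assoc, hkk]
  show Smooth (Spec.map _ ≫ Spec.map _)
  rw [← Spec.map_comp, HasRingHomProperty.Spec_iff (P := @Smooth), ← CommRingCat.ofHom_comp,
    ← IsScalarTower.algebraMap_eq, CommRingCat.hom_ofHom, RingHom.smooth_algebraMap]
  exact d.smooth_away (f y) (hf y)

end Data

/-- Over an affine base the homomorphisms from a diagonalisable group to a smooth affine group are represented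
by a smooth separated ind-quasi-affine scheme. -/
theorem exists_rep_split [Algebra.Smooth R A] :
    ∃ (X : Over (Spec (CommRingCat.of R))) (u : (RepDescLib.homSec (sp R (GA R M)) (sp R A)).obj X),
      (∀ (T : Over (Spec (CommRingCat.of R))) (s : (RepDescLib.homSec (sp R (GA R M)) (sp R A)).obj T),
        ∃! a : T ⟶ X, (RepDescLib.homSec (sp R (GA R M)) (sp R A)).res a u = s) ∧
      Smooth X.hom ∧ IsSeparated X.hom ∧ MoreMor.IsIndQuasiAffineHom X.hom := by
  obtain ⟨D⟩ := nonempty_genComod_of_smooth R A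
  obtain ⟨d⟩ := nonempty_data D
  obtain ⟨u, hu⟩ := d.exists_univ_sec (M := M)
  exact ⟨d.X, u, d.rep_all hu, d.smooth_X, d.isSeparated_X, d.isIndQuasiAffine_X⟩

end Groth.Agent.HomRep
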