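import Groth.Agent.HomRepLib.Weight
import Mathlib.RingTheory.FinitePresentation

/-!
The algebra representing compatible maps with bounded supports on generators.
-/

set_option autoImplicit false

noncomputable section

universe u

open scoped TensorProduct
open WithConv

namespace Groth.Agent.HomRep

attribute [local instance] Classical.propDecidable

variable {R : Type u} [CommRing R] {A : Type u} [CommRing A] [Bialgebra R A] {M : Type} [AddCommGroup M]
  {n : ℕ} (gen : Fin n → A) (F : Finset M)

/-- The polynomial ring of the coefficients. -/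
abbrev Coef (R : Type u) [CommRing R] {M : Type} (n : ℕ) (F : Finset M) : Type u :=
  MvPolynomial (ULift.{u} (Fin n × {m : M // m ∈ F})) R

/-- The tautological map on the free algebra. -/
def taut : MvPolynomial (Fin n) R →ₐ[R] GA (Coef R n F) M :=
  MvPolynomial.aeval fun k => ∑ m : {m : M // m ∈ F},
    MonoidAlgebra.single (Multiplicative.ofAdd (m : M)) (MvPolynomial.X (ULift.up (k, m)))

/-- A presentation. -/
abbrev pres : MvPolynomial (Fin n) R →ₐ[R] A := MvPolynomial.aeval gen

variable (hgen : Function.Surjective (pres (R := R) gen)) (hfg : (RingHom.ker (pres (R := R) gen)).FG)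

/-- Lifts of comultiplications. -/
def comulLift (k : Fin n) : MvPolynomial (Fin n) R ⊗[R] MvPolynomial (Fin n) R :=
  Function.invFun (Algebra.TensorProduct.map (pres (R := R) gen) (pres (R := R) gen)) (CoalgebraStruct.comul (gen k))

include hgen in
theorem map_comulLift (k : Fin n) :
    Algebra.TensorProduct.map (pres (R := R) gen) (pres (R := R) gen) (comulLift (R := R) gen k) = CoalgebraStruct.comul (gen k) :=
  Function.invFun_eq (TensorProduct.map_surjective hgen hgen _)

/-- The products of the two embeddings. -/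
def pairMap (T : Type u) [CommRing T] [Algebra R T] (f : MvPolynomial (Fin n) R →ₐ[R] GA T M) :
    MvPolynomial (Fin n) R ⊗[R] MvPolynomial (Fin n) R →ₐ[R] GA T (M × M) :=
  Algebra.TensorProduct.lift ((mapChr (AddMonoidHom.inl M M)).comp f) ((mapChr (AddMonoidHom.inr M M)).comp f)
    fun _ _ => Commute.all _ _

/-- The relations: coefficients of all equations. -/
def rels : Set (Coef R n F) :=
  (⋃ f ∈ (RingHom.ker (pres (R := R) gen) : Set _), Set.range fun m => cf m (taut F f)) ∪
  (⋃ k : Fin n, Set.range fun mm => cf mm (pairMap (Coef R n F) (taut F) (comulLift (R := R) gen k) -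
    mapChr (R := R) ((AddMonoidHom.id M).prod (AddMonoidHom.id M)) (taut F (MvPolynomial.X k)))) ∪
  Set.range fun k : Fin n => aug (R := R) (taut F (MvPolynomial.X k)) -
    algebraMap R (Coef R n F) (Bialgebra.counitAlgHom R A (gen k))

/-- The representing algebra. -/
abbrev Rep : Type u := Coef R n F ⧸ Ideal.span (rels (R := R) gen F)

include hfg in
theorem finitePresentation_rep : Algebra.FinitePresentation R (Rep (R := R) gen F) := by
  obtain ⟨S, hS⟩ := hfg
  refine Algebra.FinitePresentation.quotient ?_
  have hfin : ∀ {N : Type} [AddCommGroup N] (x : GA (Coef R n F) N), (Set.range fun m => cf m x).Finite := by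
    intro N _ x
    refine ((finite_support x).image (fun m => cf m x) |>.union (Set.finite_singleton 0)).subset ?_
    rintro _ ⟨m, rfl⟩
    by_cases h : cf m x = 0
    · exact Or.inr h
    · exact Or.inl ⟨m, h, rfl⟩
  let gens : Set (Coef R n F) :=
    (⋃ f ∈ (S : Set (MvPolynomial (Fin n) R)), Set.range fun m => cf m (taut F f)) ∪
    (⋃ k : Fin n, Set.range fun mm => cf mm (pairMap (Coef R n F) (taut F) (comulLift (R := R) gen k) -
      mapChr (R := R) ((AddMonoidHom.id M).prod (AddMonoidHom.id M)) (taut F (MvPolynomial.X k)))) ∪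
    Set.range fun k : Fin n => aug (R := R) (taut F (MvPolynomial.X k)) -
      algebraMap R (Coef R n F) (Bialgebra.counitAlgHom R A (gen k))
  have hg : gens.Finite :=
    ((S.finite_toSet.biUnion fun f _ => hfin _).union (Set.finite_iUnion fun k => hfin _)).union (Set.finite_range _)
  have heq : Ideal.span (rels (R := R) gen F) = Ideal.span gens := by
    refine le_antisymm (Ideal.span_le.2 ?_) (Ideal.span_mono ?_)
    · rintro x ((hx | hx) | hx)
      · simp only [Set.mem_iUnion] at hx
        obtain ⟨f, hf, m, rfl⟩ := hx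
        let I := Ideal.span gens
        have hker : RingHom.ker (pres (R := R) gen) ≤
            RingHom.ker ((cmap (M := M) (Ideal.Quotient.mkₐ R I)).comp (taut F)) := by
          rw [← hS, Ideal.span_le]
          intro g hg'
          refine ext_cf fun m' => ?_
          rw [AlgHom.comp_apply, cf_cmap, map_zero]
          exact Ideal.Quotient.eq_zero_iff_mem.2 (Ideal.subset_span (Or.inl (Or.inl (Set.mem_biUnion hg' ⟨m', rfl⟩))))
        have h0 : cmap (M := M) (Ideal.Quotient.mkₐ R I) (taut F f) = 0 := hker hf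
        have := congrArg (cf m) h0
        rw [cf_cmap, map_zero] at this
        exact Ideal.Quotient.eq_zero_iff_mem.1 this
      · exact Ideal.subset_span (Or.inl (Or.inr hx))
      · exact Ideal.subset_span (Or.inr hx)
    · refine Set.union_subset_union (Set.union_subset_union (Set.biUnion_subset_biUnion_left fun f hf => ?_)
        le_rfl) le_rfl
      exact hS ▸ Ideal.subset_span hf
  exact ⟨hg.toFinset, by rw [Set.Finite.coe_toFinset]; exact heq.symm⟩

/-- The universal map on the free algebra. -/
def univP : MvPolynomial (Fin n) R →ₐ[R] GA (Rep (R := R) gen F) M :=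
  (cmap (Ideal.Quotient.mkₐ R (Ideal.span (rels (R := R) gen F)))).comp (taut F)

theorem univP_eq_zero {f : MvPolynomial (Fin n) R} (hf : pres (R := R) gen f = 0) : univP (R := R) gen F f = 0 :=
  ext_cf fun m => by
    rw [univP, AlgHom.comp_apply, cf_cmap, map_zero]
    exact Ideal.Quotient.eq_zero_iff_mem.2 (Ideal.subset_span (Or.inl (Or.inl (Set.mem_biUnion hf ⟨m, rfl⟩))))

/-- The universal map. -/
def univ : A →ₐ[R] GA (Rep (R := R) gen F) M :=
  (Ideal.Quotient.liftₐ (RingHom.ker (pres (R := R) gen)) (univP (R := R) gen F) fun f hf => univP_eq_zero gen F hf).comp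
    (Ideal.quotientKerAlgEquivOfSurjective hgen).symm.toAlgHom

theorem univ_pres (f : MvPolynomial (Fin n) R) : univ gen F hgen (pres (R := R) gen f) = univP (R := R) gen F f := by
  have : (Ideal.quotientKerAlgEquivOfSurjective hgen).symm (pres (R := R) gen f) =
      Ideal.Quotient.mk (RingHom.ker (pres (R := R) gen)) f := by
    rw [AlgEquiv.symm_apply_eq]
    rfl
  simp [univ, this]

theorem univ_gen (k : Fin n) : univ gen F hgen (gen k) = univP (R := R) gen F (MvPolynomial.X k) := by
  rw [← univ_pres gen F hgen (MvPolynomial.X k)]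
  simp [pres]

include hgen in
theorem algHom_ext_gen {B : Type u} [CommRing B] [Algebra R B] {f g : A →ₐ[R] B} (h : ∀ k, f (gen k) = g (gen k)) :
    f = g := AlgHom.ext fun a => by
  obtain ⟨p, rfl⟩ := hgen a
  exact AlgHom.congr_fun (show f.comp (pres gen) = g.comp (pres gen) from
    MvPolynomial.algHom_ext fun k => by simpa [pres] using h k) p

theorem lift_map_pres {S T' : Type u} [CommRing S] [Algebra R S] [CommRing T'] [Algebra R T'] (g : S →ₐ[R] T')
    (f₀ : MvPolynomial (Fin n) R →ₐ[R] GA S M) (φ : A →ₐ[R] GA T' M)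
    (h : ∀ p, φ (pres (R := R) gen p) = cmap g (f₀ p)) (z : MvPolynomial (Fin n) R ⊗[R] MvPolynomial (Fin n) R) :
    Algebra.TensorProduct.lift ((mapChr (AddMonoidHom.inl M M)).comp φ) ((mapChr (AddMonoidHom.inr M M)).comp φ)
      (fun _ _ => Commute.all _ _) (Algebra.TensorProduct.map (pres (R := R) gen) (pres (R := R) gen) z) =
      cmap g (pairMap S f₀ z) := by
  induction z using TensorProduct.induction_on with
  | zero => simp
  | add x y hx hy => simp only [map_add, hx, hy]
  | tmul p q =>
    have e : ∀ (f : M →+ M × M) (x : GA S M), cmap g (mapChr (R := R) f x) = mapChr (R := R) f (cmap g x) :=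
      fun f x => AlgHom.congr_fun (cmap_mapChr g f) x
    rw [Algebra.TensorProduct.map_tmul, Algebra.TensorProduct.lift_tmul, pairMap, Algebra.TensorProduct.lift_tmul,
      AlgHom.comp_apply, AlgHom.comp_apply, AlgHom.comp_apply, AlgHom.comp_apply, map_mul, e, e, h, h]

theorem cmp_univ : Cmp (univ gen F hgen) where
  mul := by
    refine WithConv.ofConv_injective (algHom_ext_gen gen hgen fun k => ?_)
    rw [AlgHom.convMul_apply, ofConv_toConv, AlgHom.comp_apply, univ_gen, ← map_comulLift gen hgen k]
    have e1 := lift_map_pres gen (Ideal.Quotient.mkₐ R (Ideal.span (rels (R := R) gen F))) (taut F) (univ gen F hgen)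
      (fun p => univ_pres gen F hgen p)
    simp only [ofConv_toConv]
    refine (e1 (comulLift (R := R) gen k)).trans ?_
    · rw [univP, AlgHom.comp_apply, ← AlgHom.comp_apply (mapChr _) (cmap _), ← cmap_mapChr, AlgHom.comp_apply]
      refine ext_cf fun mm => ?_
      rw [cf_cmap, cf_cmap, ← sub_eq_zero, ← map_sub, ← map_sub]
      exact Ideal.Quotient.eq_zero_iff_mem.2 (Ideal.subset_span (Or.inl (Or.inr (Set.mem_iUnion.2 ⟨k, mm, rfl⟩))))
  one := by
    refine algHom_ext_gen gen hgen fun k => ?_
    rw [AlgHom.comp_apply, univ_gen, univP, AlgHom.comp_apply, AlgHom.comp_apply, Algebra.ofId_apply]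
    have e : ∀ x : GA (Coef R n F) M, aug (R := R) (cmap (Ideal.Quotient.mkₐ R (Ideal.span (rels (R := R) gen F))) x) =
        Ideal.Quotient.mkₐ R (Ideal.span (rels (R := R) gen F)) (aug (R := R) x) := fun x => by
      induction x using MonoidAlgebra.induction_linear with
      | zero => simp
      | add a b ha hb => simp only [map_add, ha, hb]
      | single m t => simp [aug, cmap]
    rw [e, IsScalarTower.algebraMap_apply R (Coef R n F) (Rep (R := R) gen F)]
    exact (Ideal.Quotient.eq (I := Ideal.span (rels (R := R) gen F))).2 (Ideal.subset_span (Or.inr ⟨k, rfl⟩))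

/-- Maps supported in `F` on the generators. -/
def GenSupp {T : Type u} [CommRing T] [Algebra R T] (φ : A →ₐ[R] GA T M) : Prop :=
  ∀ k, ∀ m ∉ F, cf m (φ (gen k)) = 0

theorem genSupp_univ {T : Type u} [CommRing T] [Algebra R T] (ψ : Rep (R := R) gen F →ₐ[R] T) :
    GenSupp gen F ((cmap ψ).comp (univ gen F hgen)) := by
  intro k m hm
  rw [AlgHom.comp_apply, cf_cmap, univ_gen, univP, AlgHom.comp_apply, cf_cmap]
  have : cf m (taut (R := R) F (MvPolynomial.X k)) = 0 := by
    simp only [taut, MvPolynomial.aeval_X, map_sum, cf_single]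
    refine Finset.sum_eq_zero fun x _ => if_neg fun (h : (x : M) = m) => hm (h ▸ x.2)
  rw [this, map_zero, map_zero]

theorem univ_injective {T : Type u} [CommRing T] [Algebra R T] {ψ ψ' : Rep (R := R) gen F →ₐ[R] T}
    (h : (cmap (M := M) ψ).comp (univ gen F hgen) = (cmap ψ').comp (univ gen F hgen)) : ψ = ψ' := by
  refine Ideal.Quotient.algHom_ext R (MvPolynomial.algHom_ext fun i => ?_)
  obtain ⟨⟨k, m⟩⟩ := i
  have e := congrArg (cf (m : M)) (AlgHom.congr_fun h (gen k))
  have hX : cf (m : M) (taut (R := R) F (MvPolynomial.X k)) = MvPolynomial.X (ULift.up (k, m)) := by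
    simp only [taut, MvPolynomial.aeval_X, map_sum, cf_single]
    rw [Finset.sum_eq_single m (fun b _ hb => if_neg fun hh => hb (Subtype.ext hh)) fun hh => absurd (Finset.mem_univ _) hh,
      if_pos rfl]
  simp only [AlgHom.comp_apply, cf_cmap, univ_gen, univP, hX] at e
  exact e

theorem exists_univ {T : Type u} [CommRing T] [Algebra R T] {φ : A →ₐ[R] GA T M} (hφ : Cmp φ)
    (hF : GenSupp gen F φ) : ∃ ψ : Rep (R := R) gen F →ₐ[R] T, (cmap ψ).comp (univ gen F hgen) = φ := by
  let ψ₀ : Coef R n F →ₐ[R] T := MvPolynomial.aeval fun i => cf (i.down.2 : M) (φ (gen i.down.1))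
  have htaut : (cmap (M := M) ψ₀).comp (taut F) = φ.comp (pres gen) := by
    refine MvPolynomial.algHom_ext fun k => ext_cf fun m => ?_
    rw [AlgHom.comp_apply, AlgHom.comp_apply, cf_cmap, taut, MvPolynomial.aeval_X, MvPolynomial.aeval_X]
    simp only [map_sum, cf_single]
    by_cases hm : m ∈ F
    · rw [Finset.sum_eq_single ⟨m, hm⟩
        (fun b _ hb => by rw [if_neg fun hh => hb (Subtype.ext hh), map_zero])
        fun hh => absurd (Finset.mem_univ _) hh, if_pos rfl]
      simp [ψ₀]
    · rw [Finset.sum_eq_zero fun x _ => by rw [if_neg fun (h : (x : M) = m) => hm (h ▸ x.2), map_zero], hF k m hm]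
  have hrels : ∀ x ∈ Ideal.span (rels (R := R) gen F), ψ₀ x = 0 := by
    suffices h : Ideal.span (rels (R := R) gen F) ≤ RingHom.ker ψ₀ from fun x hx => h hx
    rw [Ideal.span_le]
    rintro x ((hx | hx) | hx)
    · simp only [Set.mem_iUnion] at hx
      obtain ⟨f, hf, m, rfl⟩ := hx
      show ψ₀ (cf m (taut F f)) = 0
      rw [← cf_cmap, ← AlgHom.comp_apply, htaut, AlgHom.comp_apply, show pres (R := R) gen f = 0 from hf, map_zero,
        map_zero]
    · simp only [Set.mem_iUnion] at hx
      obtain ⟨k, mm, rfl⟩ := hx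
      show ψ₀ (cf mm _) = 0
      rw [← cf_cmap, map_sub]
      have e1 := fun z => (lift_map_pres gen ψ₀ (taut F) φ (fun p => (AlgHom.congr_fun htaut p).symm) z).symm
      rw [e1, map_comulLift gen hgen, ← AlgHom.comp_apply (cmap _) (mapChr _), cmap_mapChr, AlgHom.comp_apply,
        ← AlgHom.comp_apply (cmap ψ₀) (taut F), htaut, AlgHom.comp_apply]
      have h2 := AlgHom.congr_fun (congrArg WithConv.ofConv hφ.mul) (gen k)
      rw [AlgHom.convMul_apply] at h2
      simp only [ofConv_toConv, AlgHom.comp_apply] at h2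
      have h3 : pres (R := R) gen (MvPolynomial.X k) = gen k := MvPolynomial.aeval_X _ _
      rw [h3, h2, sub_self, map_zero]
    · obtain ⟨k, rfl⟩ := hx
      show ψ₀ (_ - _) = 0
      have e : ψ₀ (aug (R := R) (taut F (MvPolynomial.X k))) = aug (R := R) (φ (gen k)) := by
        have h1 : ∀ x : GA (Coef R n F) M, ψ₀ (aug (R := R) x) = aug (R := R) (cmap ψ₀ x) := fun x => by
          induction x using MonoidAlgebra.induction_linear with
          | zero => simp
          | add a b ha hb => simp only [map_add, ha, hb]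
          | single m t => simp [aug, cmap]
        rw [h1, ← AlgHom.comp_apply (cmap ψ₀) (taut F), htaut, AlgHom.comp_apply, pres, MvPolynomial.aeval_X]
      rw [map_sub, e, AlgHom.commutes, ← AlgHom.comp_apply, hφ.one, AlgHom.comp_apply, Algebra.ofId_apply, sub_self]
  refine ⟨Ideal.Quotient.liftₐ _ ψ₀ hrels, algHom_ext_gen gen hgen fun k => ext_cf fun m => ?_⟩
  rw [AlgHom.comp_apply, cf_cmap, univ_gen, univP, AlgHom.comp_apply, cf_cmap, Ideal.Quotient.liftₐ_apply,
    Ideal.Quotient.mkₐ_eq_mk, Ideal.Quotient.lift_mk]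
  show ψ₀ _ = _
  rw [← cf_cmap, ← AlgHom.comp_apply, htaut, AlgHom.comp_apply, pres, MvPolynomial.aeval_X]

end Groth.Agent.HomRep
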