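import Groth.Agent.HomRepLib.Bridge
import Groth.Agent.HomRepLib.Ring
import Mathlib.AlgebraicGeometry.Morphisms.ClosedImmersion
import Mathlib.RingTheory.FinitePresentation

/-!
The open loci where compatible maps have weights in a given finite set.
-/

set_option autoImplicit false

noncomputable section

universe u

open CategoryTheory CategoryTheory.Limits MonoidalCategory CartesianMonoidalCategory AlgebraicGeometry CoactBr
open scoped TensorProduct

namespace Groth.Agent.HomRep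

attribute [local instance] CoactBr.braidedAlgSpecOf
attribute [local instance] Classical.propDecidable

section Set

variable {R : Type u} [CommRing R] {A : Type u} [CommRing A] [Bialgebra R A] (D : GenComod R A)
  {T T' : Type u} [CommRing T] [Algebra R T] [CommRing T'] [Algebra R T'] {M : Type} [AddCommGroup M]

theorem cmap_comp {T'' : Type u} [CommRing T''] [Algebra R T''] (g' : T' →ₐ[R] T'') (g : T →ₐ[R] T') :
    (cmap (M := M) g').comp (cmap g) = cmap (g'.comp g) := AlgHom.ext fun x => by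
  induction x using MonoidAlgebra.induction_linear with
  | zero => simp
  | add a b ha hb => simp only [map_add, ha, hb]
  | single m t => simp [cmap]

theorem cmap_id : cmap (M := M) (AlgHom.id R T) = AlgHom.id R (GA T M) := AlgHom.ext fun x => by
  induction x using MonoidAlgebra.induction_linear with
  | zero => simp
  | add a b ha hb => simp only [map_add, ha, hb]
  | single m t => simp [cmap]

/-- The locus where the weights lie in a finite set. -/
def bddSet (φ : A →ₐ[R] GA T M) (F : Finset M) : Set (PrimeSpectrum T) :=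
  {q | ∀ m ∉ F, ¬ wIdeal D φ m ≤ q.asIdeal}

theorem isOpen_bddSet (φ : A →ₐ[R] GA T M) (F : Finset M) : IsOpen (bddSet D φ F) := by
  obtain ⟨F', hF'⟩ := exists_bdd D φ
  have e : bddSet D φ F = ⋂ m ∈ F' \ F, (PrimeSpectrum.zeroLocus (wIdeal D φ m : Set T))ᶜ := by
    ext q
    simp only [bddSet, Set.mem_setOf_eq, Set.mem_iInter, Finset.mem_sdiff, Set.mem_compl_iff,
      PrimeSpectrum.mem_zeroLocus, SetLike.coe_subset_coe]
    refine ⟨fun h m hm => h m hm.2, fun h m hm => ?_⟩
    by_cases hm' : m ∈ F'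
    · exact h m ⟨hm', hm⟩
    · rw [wIdeal_eq_top D (hF' m hm')]
      exact fun h' => q.isPrime.ne_top (top_le_iff.1 h')
  rw [e]
  exact isOpen_biInter_finset fun m _ => (PrimeSpectrum.isClosed_zeroLocus _).isOpen_compl

theorem bdd_cmap_iff {φ : A →ₐ[R] GA T M} (hφ : Cmp φ) (g : T →ₐ[R] T') (F : Finset M) :
    Bdd D ((cmap g).comp φ) F ↔ ∀ q, PrimeSpectrum.comap g.toRingHom q ∈ bddSet D φ F := by
  refine ⟨fun h q m hm => (proj_cmap_eq_zero_iff D hφ g m).1 (h m hm) q, fun h m hm => ?_⟩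
  exact (proj_cmap_eq_zero_iff D hφ g m).2 fun q => h q m hm

/-- The map to a residue field. -/
abbrev resHom (q : PrimeSpectrum T) : T →ₐ[R] q.asIdeal.ResidueField :=
  IsScalarTower.toAlgHom R T q.asIdeal.ResidueField

theorem mem_bddSet_iff {φ : A →ₐ[R] GA T M} (hφ : Cmp φ) (q : PrimeSpectrum T) (F : Finset M) :
    q ∈ bddSet D φ F ↔ Bdd D ((cmap (resHom (R := R) q)).comp φ) F := by
  have hq : ∀ p : PrimeSpectrum q.asIdeal.ResidueField,
      PrimeSpectrum.comap (resHom (R := R) q).toRingHom p = q := fun p => by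
    refine PrimeSpectrum.ext ?_
    show p.asIdeal.comap (algebraMap T q.asIdeal.ResidueField) = q.asIdeal
    rw [p.asIdeal.eq_bot_of_prime]
    exact Ideal.ker_algebraMap_residueField _
  rw [bdd_cmap_iff D hφ]
  exact ⟨fun h p => (hq p).symm ▸ h, fun h => hq ⟨⊥, Ideal.isPrime_bot⟩ ▸ h ⟨⊥, Ideal.isPrime_bot⟩⟩

theorem mem_bddSet_cmap {φ : A →ₐ[R] GA T M} (hφ : Cmp φ) (g : T →ₐ[R] T') (q : PrimeSpectrum T') (F : Finset M) :
    q ∈ bddSet D ((cmap g).comp φ) F ↔ PrimeSpectrum.comap g.toRingHom q ∈ bddSet D φ F := by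
  rw [mem_bddSet_iff D (hφ.map g), ← AlgHom.comp_assoc, cmap_comp, bdd_cmap_iff D hφ]
  have hq : ∀ p : PrimeSpectrum q.asIdeal.ResidueField,
      PrimeSpectrum.comap ((resHom (R := R) q).comp g).toRingHom p = PrimeSpectrum.comap g.toRingHom q := fun p => by
    refine PrimeSpectrum.ext ?_
    show p.asIdeal.comap ((algebraMap T' q.asIdeal.ResidueField).comp g.toRingHom) = q.asIdeal.comap g.toRingHom
    rw [p.asIdeal.eq_bot_of_prime, ← Ideal.comap_comap]
    exact congrArg (Ideal.comap g.toRingHom) (Ideal.ker_algebraMap_residueField q.asIdeal)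
  exact ⟨fun h => hq ⟨⊥, Ideal.isPrime_bot⟩ ▸ h ⟨⊥, Ideal.isPrime_bot⟩, fun h p => (hq p).symm ▸ h⟩

end Set

/-- A monomorphism with local sections is an isomorphism. -/
theorem isIso_of_mono_of_sections {X Y : Scheme.{u}} (w : X ⟶ Y) [Mono w]
    (h : ∀ y, ∃ (Z : Scheme.{u}) (j : Z ⟶ Y) (g : Z ⟶ X), IsOpenImmersion j ∧ y ∈ Set.range j ∧ g ≫ w = j) :
    IsIso w := by
  choose Z j g hj hy hg using h
  let 𝒰 : Y.OpenCover := Scheme.Cover.mkOfCovers (P := @IsOpenImmersion) Y Z j (fun y => ⟨y, hy y⟩) hj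
  let s : Y ⟶ X := 𝒰.glueMorphisms g fun a b => (cancel_mono w).1
    (((Category.assoc _ _ _).trans (congrArg (pullback.fst (j a) (j b) ≫ ·) (hg a))).trans
      (pullback.condition.trans ((Category.assoc _ _ _).trans (congrArg (pullback.snd (j a) (j b) ≫ ·) (hg b))).symm))
  have hs : s ≫ w = 𝟙 Y := 𝒰.hom_ext _ _ fun y => by
    rw [← Category.assoc, 𝒰.ι_glueMorphisms, Category.comp_id]
    exact hg y
  exact ⟨s, (cancel_mono w).1 (by rw [Category.assoc, hs, Category.comp_id, Category.id_comp]), hs⟩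

/-- A comodule together with finitely many generators and finitely presented relations. -/
structure Data (R : Type u) [CommRing R] (A : Type u) [CommRing A] [HopfAlgebra R A] where
  /-- the comodule -/
  D : GenComod R A
  /-- the number of generators -/
  n : ℕ
  /-- the elements -/
  v : Fin n → D.V
  hgen : Function.Surjective (pres (R := R) fun k => D.j (v k))
  hfg : (RingHom.ker (pres (R := R) fun k => D.j (v k))).FG

theorem nonempty_data {R : Type u} [CommRing R] {A : Type u} [CommRing A] [HopfAlgebra R A]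
    [Algebra.FinitePresentation R A] (D : GenComod R A) : Nonempty (Data R A) := by
  obtain ⟨n, v, hv⟩ := Module.Finite.exists_fin (R := R) (M := D.V)
  have hgen : Function.Surjective (pres (R := R) fun k => D.j (v k)) := by
    rw [← AlgHom.range_eq_top, ← Algebra.adjoin_range_eq_range_aeval, eq_top_iff, ← D.gen, Algebra.adjoin_le_iff]
    rintro _ ⟨x, rfl⟩
    have hx : x ∈ Submodule.span R (Set.range v) := hv ▸ Submodule.mem_top
    obtain ⟨c, rfl⟩ := (Submodule.mem_span_range_iff_exists_fun R).1 hx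
    rw [map_sum]
    refine sum_mem fun k _ => ?_
    rw [map_smul]
    exact Subalgebra.smul_mem _ (Algebra.subset_adjoin (Set.mem_range_self k)) _
  exact ⟨⟨D, n, v, hgen, Algebra.FinitePresentation.ker_fG_of_surjective _ hgen⟩⟩

variable {R : Type u} [CommRing R] {A : Type u} [CommRing A] [HopfAlgebra R A] {M : Type} [AddCommGroup M]

namespace Data

variable (d : Data R A)

/-- The generators. -/
abbrev gen : Fin d.n → A := fun k => d.D.j (d.v k)

/-- The representing algebra for weights in `F`. -/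
abbrev Rp (F : Finset M) : Type u := Rep (R := R) d.gen F

/-- Its universal map. -/
abbrev uφ (F : Finset M) : A →ₐ[R] GA (d.Rp F) M := univ d.gen F d.hgen

theorem genSupp_of_bdd {T : Type u} [CommRing T] [Algebra R T] {φ : A →ₐ[R] GA T M} {F : Finset M}
    (h : Bdd d.D φ F) : GenSupp d.gen F φ := fun k _ hm => h.cf_eq_zero _ (d.v k) hm

theorem genSupp_uφ {F F' : Finset M} (h : F ⊆ F') : GenSupp d.gen F' (d.uφ F) := fun k m hm => by
  have := genSupp_univ d.gen F d.hgen (AlgHom.id R (d.Rp F)) k m fun hm' => hm (h hm')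
  rwa [cmap_id, AlgHom.id_comp] at this

/-- The map of representing algebras. -/
def ψ {F F' : Finset M} (h : F ⊆ F') : d.Rp F' →ₐ[R] d.Rp F :=
  (exists_univ d.gen F' d.hgen (cmp_univ d.gen F d.hgen) (d.genSupp_uφ h)).choose

theorem cmap_ψ {F F' : Finset M} (h : F ⊆ F') : (cmap (d.ψ h)).comp (d.uφ F') = d.uφ F :=
  (exists_univ d.gen F' d.hgen (cmp_univ d.gen F d.hgen) (d.genSupp_uφ h)).choose_spec

theorem ψ_self (F : Finset M) : d.ψ (Finset.Subset.refl F) = AlgHom.id R (d.Rp F) :=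
  univ_injective d.gen F d.hgen (by rw [d.cmap_ψ, cmap_id, AlgHom.id_comp])

theorem ψ_comp {F F' F'' : Finset M} (h : F ⊆ F') (h' : F' ⊆ F'') : (d.ψ h).comp (d.ψ h') = d.ψ (h.trans h') :=
  univ_injective d.gen F'' d.hgen (by rw [d.cmap_ψ, ← cmap_comp, AlgHom.comp_assoc, d.cmap_ψ, d.cmap_ψ])

theorem ψ_surjective {F F' : Finset M} (h : F ⊆ F') : Function.Surjective (d.ψ h) := by
  intro y
  obtain ⟨p, rfl⟩ := Ideal.Quotient.mk_surjective y
  induction p using MvPolynomial.induction_on with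
  | C a => exact ⟨algebraMap R _ a, (AlgHom.commutes _ a).trans rfl⟩
  | add p q hp hq =>
    obtain ⟨a, ha⟩ := hp
    obtain ⟨b, hb⟩ := hq
    exact ⟨a + b, by rw [map_add, ha, hb, map_add]⟩
  | mul_X p i hp =>
    obtain ⟨a, ha⟩ := hp
    obtain ⟨⟨k, m⟩⟩ := i
    refine ⟨a * cf (m : M) (d.uφ F' (d.gen k)), ?_⟩
    rw [map_mul, ha, map_mul, ← cf_cmap, ← AlgHom.comp_apply, d.cmap_ψ]
    congr 1
    simp only [uφ, univ_gen, univP, AlgHom.comp_apply, cf_cmap]
    have hX : cf (m : M) (taut (R := R) F (MvPolynomial.X k)) = MvPolynomial.X (ULift.up (k, m)) := by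
      simp only [taut, MvPolynomial.aeval_X, map_sum, cf_single]
      rw [Finset.sum_eq_single m (fun b _ hb => if_neg fun hh => hb (Subtype.ext hh))
        fun hh => absurd (Finset.mem_univ _) hh, if_pos rfl]
    rw [hX]
    rfl

/-- The open where the weights of the universal map lie in `F`. -/
def bset (G F : Finset M) : (Spec (CommRingCat.of (d.Rp G))).Opens :=
  ⟨bddSet d.D (d.uφ G) F, isOpen_bddSet _ _ _⟩

/-- The piece of weights in `F`. -/
abbrev sU (F : Finset M) : Over (Spec (CommRingCat.of R)) :=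
  Over.mk ((d.bset F F).ι ≫ DiagRep.baseHom R (d.Rp F))

/-- Its embedding. -/
abbrev ιU (F : Finset M) : d.sU F ⟶ sp R (d.Rp F) := Over.homMk (d.bset F F).ι rfl

instance (F : Finset M) : IsOpenImmersion (d.ιU F).left := inferInstanceAs (IsOpenImmersion (d.bset F F).ι)

instance (F : Finset M) : Mono (d.ιU F) := Over.mono_of_mono_left _

/-- The universal section on a piece. -/
def usec (F : Finset M) : (RepDescLib.homSec (sp R (GA R M)) (sp R A)).obj (d.sU F) :=
  (RepDescLib.homSec (sp R (GA R M)) (sp R A)).res (d.ιU F) (toSec (d.uφ F) (cmp_univ d.gen F d.hgen))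

theorem exists_lift_sU {T : Type u} [CommRing T] [Algebra R T] {F : Finset M} (g : d.Rp F →ₐ[R] T)
    (h : Bdd d.D ((cmap g).comp (d.uφ F)) F) : ∃ a : sp R T ⟶ d.sU F, a ≫ d.ιU F = pt g := by
  have hr : Set.range (Spec.map (CommRingCat.ofHom g.toRingHom)) ⊆ Set.range (d.bset F F).ι := by
    rintro _ ⟨q, rfl⟩
    rw [Scheme.Opens.range_ι]
    exact (bdd_cmap_iff d.D (cmp_univ d.gen F d.hgen) g F).1 h q
  let a₀ := IsOpenImmersion.lift (d.bset F F).ι (Spec.map (CommRingCat.ofHom g.toRingHom)) hr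
  have ha : a₀ ≫ (d.bset F F).ι = (pt g).left := IsOpenImmersion.lift_fac _ _ _
  refine ⟨Over.homMk a₀ ?_, Over.OverMorphism.ext ha⟩
  show a₀ ≫ (d.bset F F).ι ≫ DiagRep.baseHom R (d.Rp F) = _
  rw [← Category.assoc, ha]
  exact Over.w (pt g)

/-- The composite of a piece with a map of representing algebras. -/
def um {F F' : Finset M} (h : F ⊆ F') : (d.bset F F).toScheme ⟶ Spec (CommRingCat.of (d.Rp F')) :=
  (d.bset F F).ι ≫ Spec.map (CommRingCat.ofHom (d.ψ h).toRingHom)

theorem um_eq {F F' : Finset M} (h : F ⊆ F') : d.um h = (d.ιU F ≫ pt (d.ψ h)).left := rfl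

theorem ι_mem {F F' : Finset M} (h : F ⊆ F') (x : (d.bset F F).toScheme) : d.um h x ∈ d.bset F' F := by
  have hx : (d.bset F F).ι x ∈ d.bset F F := x.2
  show PrimeSpectrum.comap (d.ψ h).toRingHom _ ∈ bddSet d.D (d.uφ F') F
  rw [← mem_bddSet_cmap d.D (cmp_univ d.gen F' d.hgen), d.cmap_ψ]
  exact hx

theorem bset_mono {G F F' : Finset M} (h : F ⊆ F') : d.bset G F ≤ d.bset G F' :=
  fun _ hq m hm => hq m fun hm' => hm (h hm')

/-- The inclusion of pieces on schemes. -/
def inc₀ {F F' : Finset M} (h : F ⊆ F') : (d.bset F F).toScheme ⟶ (d.bset F' F').toScheme :=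
  IsOpenImmersion.lift (d.bset F' F').ι (d.um h) (by
    rintro _ ⟨x, rfl⟩
    rw [Scheme.Opens.range_ι]
    exact d.bset_mono h (d.ι_mem h x))

theorem inc₀_ι {F F' : Finset M} (h : F ⊆ F') : d.inc₀ h ≫ (d.bset F' F').ι = d.um h :=
  IsOpenImmersion.lift_fac _ _ _

/-- The inclusion of pieces. -/
def inc {F F' : Finset M} (h : F ⊆ F') : d.sU F ⟶ d.sU F' :=
  Over.homMk (d.inc₀ h) (((Category.assoc _ _ _).symm.trans
    (congrArg (· ≫ DiagRep.baseHom R (d.Rp F')) (d.inc₀_ι h))).trans (Over.w (d.ιU F ≫ pt (d.ψ h))))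

theorem inc_ι {F F' : Finset M} (h : F ⊆ F') : d.inc h ≫ d.ιU F' = d.ιU F ≫ pt (d.ψ h) :=
  Over.OverMorphism.ext (d.inc₀_ι h)

theorem inc_self (F : Finset M) : d.inc (Finset.Subset.refl F) = 𝟙 _ := by
  rw [← cancel_mono (d.ιU F), d.inc_ι, d.ψ_self, pt_id, Category.comp_id, Category.id_comp]

theorem inc_comp {F F' F'' : Finset M} (h : F ⊆ F') (h' : F' ⊆ F'') : d.inc h ≫ d.inc h' = d.inc (h.trans h') := by
  rw [← cancel_mono (d.ιU F''), Category.assoc, d.inc_ι, d.inc_ι, ← Category.assoc, d.inc_ι, Category.assoc,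
    ← pt_comp, d.ψ_comp]

theorem res_inc {F F' : Finset M} (h : F ⊆ F') :
    (RepDescLib.homSec (sp R (GA R M)) (sp R A)).res (d.inc h) (d.usec F') = d.usec F := by
  rw [usec, usec, ← (RepDescLib.homSec _ _).res_comp, d.inc_ι, (RepDescLib.homSec _ _).res_comp, res_toSec]
  congr 2
  exact d.cmap_ψ h

theorem range_inc {F F' : Finset M} (h : F ⊆ F') :
    IsOpenImmersion (d.inc₀ h) ∧
      Set.range (d.inc₀ h) = (d.bset F' F').ι ⁻¹' (d.bset F' F : Set (Spec (CommRingCat.of (d.Rp F')))) := by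
  let V := d.bset F' F
  let w : (d.bset F F).toScheme ⟶ V.toScheme := IsOpenImmersion.lift V.ι (d.um h) (by
    rintro _ ⟨x, rfl⟩
    rw [Scheme.Opens.range_ι]
    exact d.ι_mem h x)
  have hw : w ≫ V.ι = d.um h := IsOpenImmersion.lift_fac _ _ _
  haveI : IsClosedImmersion (Spec.map (CommRingCat.ofHom (d.ψ h).toRingHom)) :=
    IsClosedImmersion.spec_of_surjective _ (d.ψ_surjective h)
  haveI : Mono (d.um h) := inferInstanceAs (Mono ((d.bset F F).ι ≫ Spec.map (CommRingCat.ofHom (d.ψ h).toRingHom)))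
  haveI : Mono w := mono_of_mono_fac hw
  haveI : IsIso w := by
    refine isIso_of_mono_of_sections w fun y => ?_
    obtain ⟨_, ⟨f, rfl⟩, hyf, hfV⟩ :=
      PrimeSpectrum.isTopologicalBasis_basic_opens.exists_subset_of_mem_open (show y.1 ∈ (V : Set _) from y.2) V.2
    let T := Localization.Away f
    let L : d.Rp F' →ₐ[R] T := IsScalarTower.toAlgHom R (d.Rp F') T
    have hb : Bdd d.D ((cmap L).comp (d.uφ F')) F := (bdd_cmap_iff d.D (cmp_univ d.gen F' d.hgen) L F).2 fun q =>
      hfV ((Set.ext_iff.1 (PrimeSpectrum.localization_away_comap_range T f) _).1 ⟨q, rfl⟩)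
    obtain ⟨g', hg'⟩ := exists_univ d.gen F d.hgen ((cmp_univ d.gen F' d.hgen).map L) (d.genSupp_of_bdd hb)
    have hgψ : g'.comp (d.ψ h) = L := univ_injective d.gen F' d.hgen (by
      rw [← cmap_comp, AlgHom.comp_assoc, d.cmap_ψ, hg'])
    obtain ⟨a, ha⟩ := d.exists_lift_sU g' (hg'.symm ▸ hb)
    let a₀ : Spec (CommRingCat.of T) ⟶ (d.bset F F).toScheme := a.left
    have ha' : a₀ ≫ (d.bset F F).ι = Spec.map (CommRingCat.ofHom g'.toRingHom) := congrArg Over.Hom.left ha
    have key : a₀ ≫ w ≫ V.ι = Spec.map (CommRingCat.ofHom (algebraMap (d.Rp F') T)) := by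
      rw [hw, um, ← Category.assoc, ha', ← Spec.map_comp, ← CommRingCat.ofHom_comp,
        show g'.toRingHom.comp (d.ψ h).toRingHom = L.toRingHom from congrArg AlgHom.toRingHom hgψ]
      rfl
    haveI : IsOpenImmersion ((a₀ ≫ w) ≫ V.ι) := by
      rw [Category.assoc, key]
      exact IsOpenImmersion.of_isLocalization (R := d.Rp F') f
    haveI : IsOpenImmersion (a₀ ≫ w) := IsOpenImmersion.of_comp _ V.ι
    refine ⟨_, a₀ ≫ w, a₀, inferInstance, ?_, rfl⟩
    obtain ⟨q, hq⟩ := (Set.ext_iff.1 (PrimeSpectrum.localization_away_comap_range T f) _).2 hyf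
    refine ⟨q, V.ι.isOpenEmbedding.injective ?_⟩
    rw [← Scheme.Hom.comp_apply, Category.assoc, key]
    exact hq
  have h1 : d.inc₀ h ≫ (d.bset F' F').ι = w ≫ V.ι := (d.inc₀_ι h).trans hw.symm
  haveI : IsOpenImmersion (d.inc₀ h ≫ (d.bset F' F').ι) := h1 ▸ inferInstance
  refine ⟨IsOpenImmersion.of_comp _ (d.bset F' F').ι, Set.ext fun z => ⟨?_, fun hz => ?_⟩⟩
  · rintro ⟨x, rfl⟩
    show (d.bset F' F').ι (d.inc₀ h x) ∈ V
    rw [← Scheme.Hom.comp_apply, h1, Scheme.Hom.comp_apply]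
    exact (w x).2
  · obtain ⟨x, hx⟩ := (TopCat.homeoOfIso (Scheme.forgetToTop.mapIso (asIso w))).surjective ⟨_, hz⟩
    refine ⟨x, (d.bset F' F').ι.isOpenEmbedding.injective ?_⟩
    rw [← Scheme.Hom.comp_apply, h1, Scheme.Hom.comp_apply]
    exact congrArg Subtype.val hx

end Data

end Groth.Agent.HomRep
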