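import Groth.Agent.HomRepLib.Basic
import Mathlib.RingTheory.Finiteness.Basic
import Mathlib.RingTheory.Support
import Mathlib.RingTheory.Spectrum.Prime.RingHom
import Mathlib.RingTheory.Flat.FaithfullyFlat.Basic

/-!
Weights of a comodule under an algebra map compatible with the comultiplications.
-/

set_option autoImplicit false

noncomputable section

universe u

open scoped TensorProduct
open WithConv

namespace Groth.Agent.HomRep

attribute [local instance] Classical.propDecidable

/-- A finitely generated comodule mapping onto generators of the algebra. -/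
structure GenComod (R : Type u) [CommRing R] (A : Type u) [CommRing A] [Bialgebra R A] where
  /-- the module -/
  V : Type u
  [grp : AddCommGroup V]
  [mod : Module R V]
  [fin : Module.Finite R V]
  /-- the coaction -/
  δ : V →ₗ[R] V ⊗[R] A
  coassoc : ∀ v, TensorProduct.assoc R V A A (TensorProduct.map δ LinearMap.id (δ v)) =
    TensorProduct.map LinearMap.id (CoalgebraStruct.comul (R := R) (A := A)) (δ v)
  counit : ∀ v, TensorProduct.rid R V (TensorProduct.map LinearMap.id (CoalgebraStruct.counit (R := R) (A := A))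
    (δ v)) = v
  /-- the map to the algebra -/
  j : V →ₗ[R] A
  j_comul : ∀ v, CoalgebraStruct.comul (R := R) (j v) = TensorProduct.map j LinearMap.id (δ v)
  gen : Algebra.adjoin R (Set.range j) = ⊤

attribute [instance] GenComod.grp GenComod.mod GenComod.fin

variable {R : Type u} [CommRing R] {A : Type u} [CommRing A] [Bialgebra R A] (D : GenComod R A)
  {T : Type u} [CommRing T] [Algebra R T] {M : Type} [AddCommGroup M]

/-- The operator of a function on the group. -/
def op (f : A →ₗ[R] T) : T ⊗[R] D.V →ₗ[T] T ⊗[R] D.V :=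
  LinearMap.liftBaseChange T (TensorProduct.map f LinearMap.id ∘ₗ (TensorProduct.comm R D.V A).toLinearMap ∘ₗ D.δ)

theorem op_one_tmul (f : A →ₗ[R] T) (v : D.V) :
    op D f (1 ⊗ₜ v) = TensorProduct.map f LinearMap.id (TensorProduct.comm R D.V A (D.δ v)) := by
  simp [op]

theorem op_ext {E : Type u} [AddCommGroup E] [Module T E] [Module R E] [IsScalarTower R T E]
    {a b : T ⊗[R] D.V →ₗ[T] E} (h : ∀ v, a (1 ⊗ₜ v) = b (1 ⊗ₜ v)) : a = b :=
  TensorProduct.AlgebraTensorModule.ext fun t v => by
    rw [← mul_one t, ← smul_eq_mul, ← TensorProduct.smul_tmul', map_smul, map_smul, h]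

/-- Convolution of functions. -/
def cv (f g : A →ₗ[R] T) : A →ₗ[R] T :=
  LinearMap.mul' R T ∘ₗ TensorProduct.map f g ∘ₗ CoalgebraStruct.comul

theorem op_comp (f g : A →ₗ[R] T) : op D f ∘ₗ op D g = op D (cv f g) := by
  refine op_ext D fun v => ?_
  let Θ : D.V ⊗[R] (A ⊗[R] A) →ₗ[R] T ⊗[R] D.V :=
    TensorProduct.map (LinearMap.mul' R T ∘ₗ TensorProduct.map f g) LinearMap.id ∘ₗ
      (TensorProduct.comm R D.V (A ⊗[R] A)).toLinearMap
  have h1 : op D (cv f g) (1 ⊗ₜ v) =
      Θ (TensorProduct.map LinearMap.id (CoalgebraStruct.comul (R := R) (A := A)) (D.δ v)) := by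
    rw [op_one_tmul]
    generalize D.δ v = z
    induction z using TensorProduct.induction_on with
    | zero => simp
    | add x y hx hy => simp only [map_add, hx, hy]
    | tmul x y => simp [Θ, cv]
  rw [h1, ← D.coassoc, LinearMap.comp_apply, op_one_tmul]
  generalize D.δ v = z
  induction z using TensorProduct.induction_on with
  | zero => simp
  | add x y hx hy => simp only [map_add, hx, hy]
  | tmul x y =>
    have e : op D f (g y ⊗ₜ x) = g y • op D f (1 ⊗ₜ x) := by
      rw [← map_smul, TensorProduct.smul_tmul', smul_eq_mul, mul_one]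
    simp only [TensorProduct.map_tmul, TensorProduct.comm_tmul, LinearMap.id_apply]
    rw [e, op_one_tmul]
    generalize D.δ x = w
    induction w using TensorProduct.induction_on with
    | zero => simp
    | add p q hp hq => simp only [map_add, TensorProduct.add_tmul, smul_add, hp, hq]
    | tmul p q => simp [Θ, TensorProduct.smul_tmul', mul_comm]

theorem op_counit : op D ((Algebra.linearMap R T) ∘ₗ CoalgebraStruct.counit) = LinearMap.id (R := T) := by
  refine op_ext D fun v => ?_
  rw [op_one_tmul, LinearMap.id_apply]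
  conv_rhs => rw [← D.counit v]
  generalize D.δ v = z
  induction z using TensorProduct.induction_on with
  | zero => simp
  | add x y hx hy => simp only [map_add, TensorProduct.tmul_add, hx, hy]
  | tmul x y => simp [TensorProduct.tmul_smul, TensorProduct.smul_tmul', Algebra.smul_def]

theorem op_natural {T' : Type u} [CommRing T'] [Algebra R T'] (g : T →ₐ[R] T') (f : A →ₗ[R] T) (x : T ⊗[R] D.V) :
    TensorProduct.map g.toLinearMap LinearMap.id (op D f x) =
      op D (g.toLinearMap ∘ₗ f) (TensorProduct.map g.toLinearMap LinearMap.id x) := by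
  induction x using TensorProduct.induction_on with
  | zero => simp
  | add x y hx hy => simp only [map_add, hx, hy]
  | tmul t v =>
    have e : ∀ {U : Type u} [CommRing U] [Algebra R U] (h : A →ₗ[R] U) (s : U), op D h (s ⊗ₜ v) = s • op D h (1 ⊗ₜ v) := by
      intro U _ _ h s
      rw [← map_smul, TensorProduct.smul_tmul', smul_eq_mul, mul_one]
    rw [TensorProduct.map_tmul, LinearMap.id_apply, e f t, e (g.toLinearMap ∘ₗ f) (g.toLinearMap t), op_one_tmul,
      op_one_tmul]
    generalize D.δ v = z
    induction z using TensorProduct.induction_on with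
    | zero => simp
    | add x y hx hy => simp only [map_add, smul_add, hx, hy]
    | tmul x y => simp [TensorProduct.smul_tmul']

/-- The coefficient function of a character. -/
def cfA (φ : A →ₐ[R] GA T M) (m : M) : A →ₗ[R] T := (cf m).restrictScalars R ∘ₗ φ.toLinearMap

theorem cfA_apply (φ : A →ₐ[R] GA T M) (m : M) (a : A) : cfA φ m a = cf m (φ a) := rfl

/-- The projection to the weight space of a character. -/
def proj (φ : A →ₐ[R] GA T M) (m : M) : T ⊗[R] D.V →ₗ[T] T ⊗[R] D.V := op D (cfA φ m)

theorem proj_comp {φ : A →ₐ[R] GA T M} (hφ : Cmp φ) (m : M) : proj D φ m ∘ₗ proj D φ m = proj D φ m := by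
  rw [proj, op_comp]
  congr 1
  refine LinearMap.ext fun a => ?_
  exact (hφ.cf_mul m m a).trans (if_pos rfl)

theorem proj_cmap {T' : Type u} [CommRing T'] [Algebra R T'] (g : T →ₐ[R] T') (φ : A →ₐ[R] GA T M) (m : M)
    (x : T ⊗[R] D.V) :
    TensorProduct.map g.toLinearMap LinearMap.id (proj D φ m x) =
      proj D ((cmap g).comp φ) m (TensorProduct.map g.toLinearMap LinearMap.id x) := by
  rw [proj, proj, op_natural]
  congr 2

/-- All weights lie in a finite set. -/
theorem exists_finset (φ : A →ₐ[R] GA T M) : ∃ F : Finset M, ∀ m ∉ F, proj D φ m = 0 := by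
  obtain ⟨S, hS⟩ := Module.Finite.fg_top (R := R) (M := D.V)
  have : ∀ z : D.V ⊗[R] A, ∃ F : Finset M, ∀ m ∉ F,
      TensorProduct.map (cfA φ m) LinearMap.id (TensorProduct.comm R D.V A z) = 0 := by
    intro z
    induction z using TensorProduct.induction_on with
    | zero => exact ⟨∅, fun m _ => by simp⟩
    | add x y hx hy =>
      obtain ⟨F, hF⟩ := hx
      obtain ⟨F', hF'⟩ := hy
      refine ⟨F ∪ F', fun m hm => ?_⟩
      rw [Finset.notMem_union] at hm
      rw [map_add, map_add, hF m hm.1, hF' m hm.2, add_zero]
    | tmul x y =>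
      refine ⟨(finite_support (φ y)).toFinset, fun m hm => ?_⟩
      have : cf m (φ y) = 0 := by simpa using hm
      simp [cfA, this]
  choose F hF using this
  refine ⟨S.biUnion fun v => F (D.δ v), fun m hm => ?_⟩
  simp only [Finset.mem_biUnion, not_exists, not_and] at hm
  refine op_ext D fun v => ?_
  have hv : v ∈ Submodule.span R (S : Set D.V) := hS ▸ Submodule.mem_top
  rw [LinearMap.zero_apply, proj]
  induction hv using Submodule.span_induction with
  | mem v hv => rw [op_one_tmul]; exact hF _ m (hm v hv)
  | zero => simp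
  | add x y _ _ hx hy => rw [TensorProduct.tmul_add, map_add, hx, hy, add_zero]
  | smul r x _ hx => rw [TensorProduct.tmul_smul, LinearMap.map_smul_of_tower, hx, smul_zero]

/-- The weights are in `F`. -/
def Bdd (φ : A →ₐ[R] GA T M) (F : Finset M) : Prop := ∀ m ∉ F, proj D φ m = 0

theorem exists_bdd (φ : A →ₐ[R] GA T M) : ∃ F, Bdd D φ F := exists_finset D φ

theorem Bdd.mono {φ : A →ₐ[R] GA T M} {F F' : Finset M} (h : Bdd D φ F) (hF : F ⊆ F') : Bdd D φ F' :=
  fun m hm => h m fun h' => hm (hF h')

theorem Bdd.cf_eq_zero {φ : A →ₐ[R] GA T M} {F : Finset M} (h : Bdd D φ F) (v : D.V) {m : M} (hm : m ∉ F) :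
    cf m (φ (D.j v)) = 0 := by
  let l : T ⊗[R] D.V →ₗ[R] T :=
    LinearMap.mul' R T ∘ₗ TensorProduct.map LinearMap.id
      (Algebra.linearMap R T ∘ₗ CoalgebraStruct.counit ∘ₗ D.j)
  have key : l (proj D φ m (1 ⊗ₜ v)) = cf m (φ (D.j v)) := by
    rw [proj, op_one_tmul]
    conv_rhs =>
      rw [← LinearEquiv.apply_symm_apply (TensorProduct.lid R A) (D.j v)]
      rw [TensorProduct.lid_symm_apply, ← Coalgebra.rTensor_counit_comul, D.j_comul]
    generalize D.δ v = z
    induction z using TensorProduct.induction_on with
    | zero => simp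
    | add x y hx hy => simp only [map_add, hx, hy]
    | tmul x y =>
      simp [l, cfA, LinearMap.map_smul_of_tower]
      simp [Algebra.smul_def, mul_comm]
  rw [← key, h m hm, LinearMap.zero_apply, map_zero]

/-- The ideal cutting out where a weight occurs. -/
def wIdeal (φ : A →ₐ[R] GA T M) (m : M) : Ideal T := (LinearMap.range (proj D φ m)).annihilator

theorem wIdeal_eq_top {φ : A →ₐ[R] GA T M} {m : M} (h : proj D φ m = 0) : wIdeal D φ m = ⊤ := by
  rw [wIdeal, h, LinearMap.range_zero, Submodule.annihilator_bot]

/-- A weight vanishes after a change of coefficients iff the annihilator generates the unit ideal. -/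
theorem proj_cmap_eq_zero_iff {φ : A →ₐ[R] GA T M} (hφ : Cmp φ) {T' : Type u} [CommRing T'] [Algebra R T']
    (g : T →ₐ[R] T') (m : M) :
    proj D ((cmap g).comp φ) m = 0 ↔
      ∀ q : PrimeSpectrum T', ¬ wIdeal D φ m ≤ (PrimeSpectrum.comap g.toRingHom q).asIdeal := by
  let gV := TensorProduct.map g.toLinearMap (LinearMap.id : D.V →ₗ[R] D.V)
  constructor
  · intro h0 q hq
    letI : Algebra T T' := g.toRingHom.toAlgebra
    haveI : IsScalarTower R T T' := IsScalarTower.of_algebraMap_eq fun r => (g.commutes r).symm
    let N := LinearMap.range (proj D φ m)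
    have hN : Module.Finite T N := Module.Finite.range _
    let p : PrimeSpectrum T := PrimeSpectrum.comap g.toRingHom q
    have hp : p ∈ Module.support T N := by
      rw [Module.support_eq_zeroLocus, PrimeSpectrum.mem_zeroLocus]
      exact hq
    -- the base change of the weight space vanishes
    have hzero : ∀ y : T' ⊗[T] N, y = 0 := by
      let ι' : T' ⊗[T] (T ⊗[R] D.V) ≃ₗ[T'] T' ⊗[R] D.V := TensorProduct.AlgebraTensorModule.cancelBaseChange R T T' T' D.V
      have hι : ∀ x, ι' (1 ⊗ₜ x) = gV x := fun x => by
        induction x using TensorProduct.induction_on with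
        | zero => simp
        | add a b ha hb => simp only [TensorProduct.tmul_add, map_add, ha, hb]
        | tmul t v => simp [ι', gV, Algebra.smul_def, RingHom.algebraMap_toAlgebra]
      intro y
      induction y using TensorProduct.induction_on with
      | zero => rfl
      | add a b ha hb => rw [ha, hb, add_zero]
      | tmul s n =>
        obtain ⟨_, x, rfl⟩ := n
        let P : T ⊗[R] D.V →ₗ[T] N := (proj D φ m).rangeRestrict
        have h1 : (1 : T') ⊗ₜ[T] (proj D φ m x) = 0 := ι'.injective (by
          rw [hι, map_zero]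
          show TensorProduct.map g.toLinearMap LinearMap.id (proj D φ m x) = 0
          rw [proj_cmap, h0, LinearMap.zero_apply])
        have h2 := congrArg (LinearMap.lTensor T' P) h1
        rw [LinearMap.lTensor_tmul, map_zero] at h2
        have h3 : P (proj D φ m x) = P x := Subtype.ext (LinearMap.congr_fun (proj_comp D hφ m) x)
        rw [h3] at h2
        calc s ⊗ₜ[T] (P x : N) = s • ((1 : T') ⊗ₜ[T] P x) := by rw [TensorProduct.smul_tmul', smul_eq_mul, mul_one]
          _ = 0 := by rw [h2, smul_zero]
    haveI : Subsingleton (T' ⊗[T] N) := ⟨fun a b => by rw [hzero a, hzero b]⟩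
    let K := p.asIdeal.ResidueField
    let L := q.asIdeal.ResidueField
    haveI hnon : Nontrivial (K ⊗[T] N) := (Module.mem_support_iff_nontrivial_residueField_tensorProduct p).1 hp
    letI : Algebra K L := (Ideal.ResidueField.map p.asIdeal q.asIdeal g.toRingHom rfl).toAlgebra
    haveI : IsScalarTower T K L := IsScalarTower.of_algebraMap_eq fun t => by
      rw [RingHom.algebraMap_toAlgebra, Ideal.ResidueField.map_algebraMap, IsScalarTower.algebraMap_apply T T' L]
      rfl
    haveI : Subsingleton (L ⊗[T] N) :=
      (TensorProduct.AlgebraTensorModule.cancelBaseChange T T' T' L N).symm.subsingleton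
    haveI : Subsingleton (L ⊗[K] (K ⊗[T] N)) :=
      (TensorProduct.AlgebraTensorModule.cancelBaseChange T K K L N).subsingleton
    have : Module.FaithfullyFlat K L := inferInstance
    exact not_subsingleton (K ⊗[T] N) (Module.FaithfullyFlat.lTensor_reflects_triviality K L _)
  · intro h
    have hI : (wIdeal D φ m).map g.toRingHom = ⊤ := by
      by_contra hne
      obtain ⟨q, hq, hle⟩ := Ideal.exists_le_maximal _ hne
      exact h ⟨q, hq.isPrime⟩ (Ideal.map_le_iff_le_comap.1 hle)
    refine op_ext D fun v => ?_
    have hv : (1 : T') ⊗ₜ[R] v = gV (1 ⊗ₜ v) := by simp [gV]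
    rw [LinearMap.zero_apply, hv, ← proj_cmap]
    let x : T' ⊗[R] D.V := TensorProduct.map g.toLinearMap LinearMap.id (proj D φ m (1 ⊗ₜ v))
    let J : Ideal T' :=
      { carrier := {t | t • x = 0}
        add_mem' := fun {a b} (ha : a • x = 0) (hb : b • x = 0) =>
          show (a + b) • x = 0 by rw [add_smul, ha, hb, add_zero]
        zero_mem' := zero_smul T' x
        smul_mem' := fun c a (ha : a • x = 0) => show (c • a) • x = 0 by rw [smul_assoc, ha, smul_zero] }
    have hJ : (wIdeal D φ m).map g.toRingHom ≤ J := Ideal.map_le_iff_le_comap.2 fun a ha => by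
      show g a • x = 0
      have hsm : ∀ y : T ⊗[R] D.V, TensorProduct.map g.toLinearMap LinearMap.id (a • y) =
          g a • TensorProduct.map g.toLinearMap (LinearMap.id : D.V →ₗ[R] D.V) y := fun y => by
        induction y using TensorProduct.induction_on with
        | zero => simp
        | add p q hp hq => simp only [smul_add, map_add, hp, hq]
        | tmul t w => simp [TensorProduct.smul_tmul']
      rw [show g a • x = TensorProduct.map g.toLinearMap LinearMap.id (a • proj D φ m (1 ⊗ₜ v)) from (hsm _).symm,
        Submodule.mem_annihilator.1 ha _ ⟨_, rfl⟩, map_zero]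
    have h1 : (1 : T') ∈ J := hJ (hI ▸ Submodule.mem_top)
    simpa [J, x] using h1

end Groth.Agent.HomRep
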